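import Groth.Agent.EtRamStepLib.Step
import Mathlib.RingTheory.TensorProduct.Basic

/-! The separable extension by a root of `X ^ p - π ^ N X - π`. -/

set_option autoImplicit false
universe u

noncomputable section

namespace EtRamStepLib

open Polynomial
open scoped TensorProduct

/-- The polynomial. -/
def stepPoly {R : Type u} [CommRing R] (π : R) (N p : ℕ) : R[X] := X ^ p + -(C (π ^ N) * X + C π)

theorem stepPoly_monic {R : Type u} [CommRing R] (π : R) (N : ℕ) {p : ℕ} (hp : p.Prime) : (stepPoly π N p).Monic := by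
  refine monic_X_pow_add ?_
  rw [degree_neg]
  exact lt_of_le_of_lt (degree_linear_le) (by exact_mod_cast hp.one_lt)

theorem stepPoly_natDegree {R : Type u} [CommRing R] [Nontrivial R] (π : R) (N : ℕ) {p : ℕ} (hp : p.Prime) :
    (stepPoly π N p).natDegree = p := by
  rw [stepPoly, natDegree_add_eq_left_of_natDegree_lt, natDegree_X_pow]
  rw [natDegree_X_pow, natDegree_neg]
  exact lt_of_le_of_lt natDegree_linear_le hp.one_lt

theorem map_stepPoly {R S : Type u} [CommRing R] [CommRing S] (f : R →+* S) (π : R) (N p : ℕ) :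
    (stepPoly π N p).map f = stepPoly (f π) N p := by simp [stepPoly, Polynomial.map_pow, map_pow]

variable {p : ℕ} (hp : p.Prime)
include hp

theorem irreducible_stepPoly {A K : Type u} [CommRing A] [IsDomain A] [IsDiscreteValuationRing A] [Field K] [Algebra A K]
    [IsFractionRing A K] {π : A} (hπ : Irreducible π) {N : ℕ} (hN : 1 ≤ N) :
    Irreducible (stepPoly (algebraMap A K π) N p) := by
  have hm := stepPoly_monic π N hp
  rw [← map_stepPoly, ← hm.irreducible_iff_irreducible_map_fraction_map]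
  have hdeg := stepPoly_natDegree π N hp
  have h0 : ∀ n, n < p → (stepPoly π N p).coeff n = -(if n = 1 then π ^ N else 0) - (if n = 0 then π else 0) := by
    intro n hn
    simp only [stepPoly, coeff_add, coeff_neg, coeff_X_pow, coeff_C_mul, coeff_X, coeff_C, if_neg hn.ne]
    rcases eq_or_ne n 1 with rfl | h1
    · simp
    · simp [h1, Ne.symm h1]
  refine Polynomial.IsEisensteinAt.irreducible (𝓟 := Ideal.span {π}) ⟨?_, fun {n} hn => ?_, ?_⟩ ?_ hm.isPrimitive (hdeg.symm ▸ hp.pos)
  · rw [hm.leadingCoeff, Ideal.mem_span_singleton]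
    exact fun h => hπ.not_isUnit (isUnit_of_dvd_one h)
  · rw [hdeg] at hn
    rw [h0 n hn, Ideal.mem_span_singleton]
    refine dvd_sub (dvd_neg.2 ?_) ?_
    · split_ifs with h
      · exact dvd_pow_self π (by omega)
      · exact dvd_zero _
    · split_ifs with h
      · exact dvd_rfl
      · exact dvd_zero _
  · rw [h0 0 hp.pos, Ideal.span_singleton_pow, Ideal.mem_span_singleton]
    simp only [zero_ne_one, if_false, if_true, neg_zero, zero_sub, dvd_neg]
    intro h
    exact hπ.not_isUnit (isUnit_of_dvd_one ((mul_dvd_mul_iff_left hπ.ne_zero).1 (by rwa [mul_one, ← pow_two])))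
  · exact (Ideal.span_singleton_prime hπ.ne_zero).2 hπ.prime

theorem separable_stepPoly {K : Type u} [Field K] [CharP K p] {π : K} (hπ : π ≠ 0) (N : ℕ) :
    (stepPoly π N p).Separable := by
  have hd : (stepPoly π N p).derivative = C (-(π ^ N)) := by
    rw [stepPoly, derivative_add, derivative_X_pow, derivative_neg, derivative_add, derivative_C_mul_X, derivative_C,
      CharP.cast_eq_zero, C_0, zero_mul, zero_add, add_zero, C_neg]
  rw [separable_def, hd]
  exact ⟨0, C (-(π ^ N))⁻¹, by rw [zero_mul, zero_add, ← C_mul, inv_mul_cancel₀ (neg_ne_zero.2 (pow_ne_zero _ hπ)), C_1]⟩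

omit hp in
theorem isField_tensor {K F K₁ : Type u} [Field K] [Field F] [Algebra K F] [Field K₁] [Algebra K K₁] (pb : PowerBasis K K₁)
    (hirr : Irreducible ((minpoly K pb.gen).map (algebraMap K F))) : IsField (F ⊗[K] K₁) := by
  have := Fact.mk hirr
  let pF := AdjoinRoot.powerBasis (f := (minpoly K pb.gen).map (algebraMap K F)) hirr.ne_zero
  let ψ : K₁ →ₐ[K] AdjoinRoot ((minpoly K pb.gen).map (algebraMap K F)) := pb.lift (AdjoinRoot.root _) (by
    rw [← aeval_map_algebraMap F, AdjoinRoot.aeval_eq, AdjoinRoot.mk_self])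
  let e : F ⊗[K] K₁ →ₐ[F] AdjoinRoot ((minpoly K pb.gen).map (algebraMap K F)) :=
    Algebra.TensorProduct.lift (Algebra.ofId F _) ψ fun _ _ => Commute.all _ _
  let e' : AdjoinRoot ((minpoly K pb.gen).map (algebraMap K F)) →ₐ[F] F ⊗[K] K₁ :=
    AdjoinRoot.liftAlgHom _ (Algebra.ofId F _) (1 ⊗ₜ pb.gen) (by
      show aeval ((1 : F) ⊗ₜ[K] pb.gen) _ = 0
      rw [aeval_map_algebraMap, show ((1 : F) ⊗ₜ[K] pb.gen) = (Algebra.TensorProduct.includeRight : K₁ →ₐ[K] F ⊗[K] K₁) pb.gen from rfl,
        aeval_algHom_apply, minpoly.aeval, map_zero])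
  have h1 : e'.comp e = AlgHom.id F _ := by
    refine Algebra.TensorProduct.ext (Subsingleton.elim _ _) (pb.algHom_ext ?_)
    simp [e, e', ψ]
  have hinj : Function.Injective e := Function.LeftInverse.injective (fun z => AlgHom.congr_fun h1 z)
  have hsur : Function.Surjective e := by
    intro z
    induction z using AdjoinRoot.induction_on with
    | ih q =>
      refine ⟨aeval ((1 : F) ⊗ₜ[K] pb.gen) q, ?_⟩
      rw [← aeval_algHom_apply, ← AdjoinRoot.aeval_eq]
      simp [e, ψ]
  exact (RingEquiv.ofBijective e ⟨hinj, hsur⟩).toMulEquiv.isField (Field.toIsField _)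

/-- Estimates for a root inside any dominating valuation ring. -/
theorem root_valuation {B Ω : Type u} [CommRing B] [IsDomain B] [IsDiscreteValuationRing B] [Field Ω]
    (W : ValuationSubring Ω) (g : B →+* Ω)
    (hdom : (∀ b : B, g b ∈ W) ∧ ∀ b : B, b ∈ IsLocalRing.maximalIdeal B → W.valuation (g b) < 1)
    {π : B} (hπ : Irreducible π) (hπ0 : g π ≠ 0) {n : ℕ} (hn : 1 ≤ n) {x : Ω}
    (hx : x ^ p = g π * (1 + g (π ^ n) * x)) :
    x ≠ 0 ∧ W.valuation x < 1 ∧ W.valuation (g π) = W.valuation x ^ p ∧ W.valuation (1 + g (π ^ n) * x) = 1 := by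
  have hvπ : W.valuation (g π) < 1 := hdom.2 π (by rw [hπ.maximalIdeal_eq]; exact Ideal.mem_span_singleton_self π)
  have hvn : W.valuation (g (π ^ n)) < 1 := by rw [map_pow, map_pow]; exact pow_lt_one₀ zero_le hvπ (by omega)
  have hle : W.valuation x ≤ 1 := by
    by_contra hgt
    push Not at hgt
    have h1 : W.valuation (1 + g (π ^ n) * x) ≤ W.valuation x := W.valuation.map_add_le
      (by rw [map_one]; exact hgt.le) (by rw [map_mul]; exact mul_le_of_le_one_left zero_le hvn.le)
    have h2 : W.valuation x ^ p < W.valuation x := by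
      rw [← map_pow, hx, map_mul]
      exact lt_of_le_of_lt (mul_le_mul_right h1 _) (mul_lt_of_lt_one_left (zero_lt_one.trans hgt) hvπ)
    exact not_le.2 h2 (le_self_pow₀ hgt.le hp.ne_zero)
  have hone : W.valuation (1 + g (π ^ n) * x) = 1 := by
    rw [Valuation.map_add_eq_of_lt_left, map_one]
    rw [map_one, map_mul]
    exact mul_lt_one_of_nonneg_of_lt_one_left zero_le hvn hle
  have hpow : W.valuation (g π) = W.valuation x ^ p := by rw [← map_pow, hx, map_mul, hone, mul_one]
  refine ⟨fun h0 => hπ0 ?_, ?_, hpow, hone⟩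
  · rw [h0, map_zero, zero_pow hp.ne_zero, map_eq_zero] at hpow
    exact hpow
  · refine lt_of_le_of_ne hle fun h1 => hvπ.ne ?_
    rw [hpow, h1, one_pow]

omit hp in
theorem adjoin_root_range {K K₁ F Ω : Type u} [Field K] [Field K₁] [Field F] [Field Ω] [Algebra K K₁] [Algebra K F]
    [Algebra K Ω] [Algebra F Ω] [Algebra K₁ Ω] [IsScalarTower K F Ω] [IsScalarTower K K₁ Ω] (pb : PowerBasis K K₁)
    (hgen : Algebra.adjoin F (Set.range (algebraMap K₁ Ω)) = ⊤) :
    Algebra.adjoin F ({algebraMap K₁ Ω pb.gen} : Set Ω) = ⊤ := by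
  refine top_unique (hgen ▸ Algebra.adjoin_le ?_)
  rintro _ ⟨k, rfl⟩
  have hk : k ∈ Algebra.adjoin K ({pb.gen} : Set K₁) := pb.adjoin_gen_eq_top ▸ Algebra.mem_top
  induction hk using Algebra.adjoin_induction with
  | mem t ht => rw [ht]; exact Algebra.self_mem_adjoin_singleton F _
  | algebraMap r => rw [← IsScalarTower.algebraMap_apply, IsScalarTower.algebraMap_apply K F Ω]; exact Subalgebra.algebraMap_mem _ _
  | add a b _ _ ha hb => rw [map_add]; exact add_mem ha hb
  | mul a b _ _ ha hb => rw [map_mul]; exact mul_mem ha hb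

omit hp in
theorem weaklyUnramified_of_le {K₁ Ω : Type u} [Field K₁] [Field Ω] (W : ValuationSubring Ω) (f : K₁ →+* Ω) (r : K₁)
    (hlt : W.valuation (f r) < 1) (hle : ∀ z, W.valuation z < 1 → W.valuation z ≤ W.valuation (f r)) :
    letI : Algebra (W.comap f) W := (EtRam.inclOfComap W f).toAlgebra
    EtRam.IsWeaklyUnramified (W.comap f) W := by
  letI : Algebra (W.comap f) W := (EtRam.inclOfComap W f).toAlgebra
  refine le_antisymm (Ideal.map_le_iff_le_comap.2 fun a ha h => ha (isUnit_of_map_unit (EtRam.inclOfComap W f) a h)) ?_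
  intro z hz
  let r' : W.comap f := ⟨r, (W.valuation_le_one_iff _).1 hlt.le⟩
  have hr : r' ∈ IsLocalRing.maximalIdeal (W.comap f) := fun h =>
    hlt.ne ((W.valuation_eq_one_iff (EtRam.inclOfComap W f r')).1 (h.map _))
  have hz' := hle z ((W.valuation_lt_one_iff z).1 hz)
  by_cases h0 : f r = 0
  · rw [h0, map_zero, nonpos_iff_eq_zero, map_eq_zero] at hz'
    rw [show z = 0 from Subtype.ext hz']
    exact zero_mem _
  have hq : (z : Ω) / f r ∈ W := (W.valuation_le_one_iff _).1 (by rw [map_div₀]; exact div_le_one_of_le₀ hz' zero_le)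
  have : z = ⟨_, hq⟩ * algebraMap (W.comap f) W r' := Subtype.ext (by
    show (z : Ω) = (z : Ω) / f r * f r
    field_simp)
  rw [this]
  exact Ideal.mul_mem_left _ _ (Ideal.mem_map_of_mem _ hr)

theorem totallyRamified {A K K₁ : Type u} [CommRing A] [IsDomain A] [IsDiscreteValuationRing A] [Field K] [Algebra A K]
    [IsFractionRing A K] [Field K₁] [Algebra K K₁] (pb : PowerBasis K K₁) {π : A} (hπ : Irreducible π) {n : ℕ} (hn : 1 ≤ n)
    (hx : pb.gen ^ p = algebraMap K K₁ (algebraMap A K π) * (1 + algebraMap K K₁ (algebraMap A K (π ^ n)) * pb.gen)) :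
    EtRam.IsTotallyRamified A ((algebraMap K K₁).comp (algebraMap A K)) := by
  let g := (algebraMap K K₁).comp (algebraMap A K)
  have hginj : Function.Injective g := (algebraMap K K₁).injective.comp (IsFractionRing.injective A K)
  let x := pb.gen
  have hg : ∀ b : A, g b = algebraMap K K₁ (algebraMap A K b) := fun _ => rfl
  have hgπ : g π ≠ 0 := (map_ne_zero_iff _ hginj).2 hπ.ne_zero
  have hlayer : ∀ V : ValuationSubring K₁, EtRam.Dominates A g V →
      Layer V g p x (fun _ : Unit => (1 : K₁)) π := fun V hV => by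
    obtain ⟨h0, hlt, hpow, -⟩ := root_valuation hp V g hV hπ hgπ hn hx
    exact ⟨hπ, h0, hlt, hpow, indep_unique V hV⟩
  have h1 : Cleared g π p x (fun _ : Unit => (1 : K₁)) 1 := by
    simpa using Cleared.monomial (g := g) (π := π) (x := x) (e := fun _ : Unit => (1 : K₁)) (⟨0, hp.pos⟩ : Fin p) ()
  have hcl : ∀ z, Cleared g π p x (fun _ : Unit => (1 : K₁)) z := fun z => by
    refine Cleared.adjoin hπ hg h1 (S := {x}) ?_ (pb.adjoin_gen_eq_top ▸ Algebra.mem_top)
    rintro _ rfl i ⟨⟩
    rw [mul_one, ← pow_succ']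
    rcases lt_or_eq_of_le (Nat.succ_le_of_lt i.2) with hlt | heq
    · simpa using Cleared.monomial (g := g) (π := π) (x := x) (e := fun _ : Unit => (1 : K₁)) (⟨_, hlt⟩ : Fin p) ()
    · rw [show (i : ℕ) + 1 = p from heq, show x ^ p = g π * (1 + g (π ^ n) * x) from hx, mul_add, ← mul_assoc]
      refine (h1.smul hπ hg _).add ?_
      rw [← map_mul]
      have := (Cleared.monomial (g := g) (π := π) (x := x) (e := fun _ : Unit => (1 : K₁)) (⟨1, hp.one_lt⟩ : Fin p) ()).smul hπ hg (algebraMap A K (π * π ^ n))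
      simpa [hg] using this
  have hmem : ∀ V : ValuationSubring K₁, EtRam.Dominates A g V → ∀ z, z ∈ V ↔
      ∃ q : Fin p → A, z = ∑ i : Fin p, x ^ (i : ℕ) * g (q i) := by
    intro V hV z
    constructor
    · intro hz
      obtain ⟨k, b, hb⟩ := hcl z
      choose q hq using (hlayer V hV).dvd_of_le_one hp.pos k z b hb ((V.valuation_le_one_iff z).2 hz)
      refine ⟨fun i => q i (), mul_left_cancel₀ ((map_ne_zero_iff _ hginj).2 (pow_ne_zero k hπ.ne_zero)) ?_⟩
      rw [hb, Finset.mul_sum]
      refine Finset.sum_congr rfl fun i _ => ?_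
      simp only [Finset.univ_unique, Finset.sum_singleton, hq, map_mul, mul_one]
      rw [show (default : Unit) = () from rfl]
      ring
    · rintro ⟨q, rfl⟩
      exact sum_mem fun i _ => mul_mem (pow_mem ((V.valuation_le_one_iff _).1 (hlayer V hV).lt.le) _) (hV.1 _)
  refine ⟨?_, fun V V' h h' => SetLike.ext fun z => (hmem V h z).trans (hmem V' h' z).symm, fun V hV r => ?_⟩
  · let I : Ideal g.range := Ideal.map g.rangeRestrict (IsLocalRing.maximalIdeal A)
    have hI : I ≠ ⊤ := by
      intro htop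
      let e := RingEquiv.ofBijective g.rangeRestrict ⟨fun a b h => hginj (congrArg Subtype.val h), g.rangeRestrict_surjective⟩
      have := congrArg (Ideal.comap g.rangeRestrict) htop
      rw [Ideal.comap_map_of_bijective g.rangeRestrict e.bijective, Ideal.comap_top] at this
      exact (IsLocalRing.maximalIdeal.isMaximal A).ne_top this
    obtain ⟨V, hle, hnu⟩ := Ideal.image_subset_nonunits_valuationSubring I hI
    refine ⟨V, fun a => hle ⟨a, rfl⟩, fun a ha => ?_⟩
    have := hnu ⟨g.rangeRestrict a, Ideal.mem_map_of_mem _ ha, rfl⟩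
    exact (ValuationSubring.mem_nonunits_iff _).1 this
  · obtain ⟨⟨z, hz⟩, rfl⟩ := IsLocalRing.residue_surjective r
    obtain ⟨q, hq⟩ := (hmem V hV z).1 hz
    refine ⟨q ⟨0, hp.pos⟩, ?_⟩
    show IsLocalRing.residue V (RingHom.codRestrict g V hV.1 (q ⟨0, hp.pos⟩)) = _
    rw [← sub_eq_zero, ← map_sub, IsLocalRing.residue_eq_zero_iff, V.valuation_lt_one_iff]
    show V.valuation (g (q ⟨0, hp.pos⟩) - z) < 1
    rw [hq, ← Finset.add_sum_erase _ _ (Finset.mem_univ (⟨0, hp.pos⟩ : Fin p))]
    simp only [pow_zero, one_mul, sub_add_cancel_left, Valuation.map_neg]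
    refine Valuation.map_sum_lt _ one_ne_zero fun i hi => ?_
    rw [map_mul, map_pow]
    refine mul_lt_one_of_nonneg_of_lt_one_left zero_le (pow_lt_one₀ zero_le (hlayer V hV).lt fun h0 => ?_) ((V.valuation_le_one_iff _).2 (hV.1 _))
    exact (Finset.mem_erase.1 hi).1 (Fin.ext h0)

/-- The base is unramified after the extension. -/
theorem weakSolution_base {B K L K₁ : Type u} [CommRing B] [IsDomain B] [IsDiscreteValuationRing B] [Field K] [Field L]
    [Field K₁] [Algebra K L] [Algebra K K₁] [Algebra B L] [IsFractionRing B L] (pb : PowerBasis K K₁) {π : B} (hπ : Irreducible π)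
    {πK : K} (hπK : algebraMap K L πK = algebraMap B L π) {n : ℕ} (hn : 1 ≤ n)
    (hx : pb.gen ^ p = algebraMap K K₁ πK * (1 + algebraMap K K₁ (πK ^ n) * pb.gen)) :
    EtRam.IsWeakSolution B K L K₁ := by
  intro Ω _ _ _ _ _ _ hgen W hW
  let g := (algebraMap L Ω).comp (algebraMap B L)
  have hg : ∀ b : B, g b = algebraMap L Ω (algebraMap B L b) := fun _ => rfl
  let x := algebraMap K₁ Ω pb.gen
  have hk : algebraMap K₁ Ω (algebraMap K K₁ πK) = g π := by
    rw [hg, ← hπK, ← IsScalarTower.algebraMap_apply, ← IsScalarTower.algebraMap_apply]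
  have hxp : x ^ p = g π * (1 + g (π ^ n) * x) := by
    rw [← map_pow, hx, map_mul, map_add, map_one, map_mul, hk, map_pow (algebraMap K K₁), map_pow, hk, ← map_pow]
  have hgπ : g π ≠ 0 := by
    rw [hg]; exact (_root_.map_ne_zero _).2 ((map_ne_zero_iff _ (IsFractionRing.injective B L)).2 hπ.ne_zero)
  obtain ⟨h0, hlt, hpow, -⟩ := root_valuation hp W g hW hπ hgπ hn hxp
  have hlayer : Layer W g p x (fun _ : Unit => (1 : Ω)) π := ⟨hπ, h0, hlt, hpow, indep_unique W hW⟩
  have h1 : Cleared g π p x (fun _ : Unit => (1 : Ω)) 1 := by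
    simpa using Cleared.monomial (g := g) (π := π) (x := x) (e := fun _ : Unit => (1 : Ω)) (⟨0, hp.pos⟩ : Fin p) ()
  have hcl : ∀ z, Cleared g π p x (fun _ : Unit => (1 : Ω)) z := fun z => by
    refine Cleared.adjoin hπ hg h1 (S := {x}) ?_ (adjoin_root_range pb hgen ▸ Algebra.mem_top)
    rintro _ rfl i ⟨⟩
    rw [mul_one, ← pow_succ']
    rcases lt_or_eq_of_le (Nat.succ_le_of_lt i.2) with hlt | heq
    · simpa using Cleared.monomial (g := g) (π := π) (x := x) (e := fun _ : Unit => (1 : Ω)) (⟨_, hlt⟩ : Fin p) ()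
    · rw [show (i : ℕ) + 1 = p from heq, hxp, mul_add, ← mul_assoc]
      refine (h1.smul hπ hg _).add ?_
      rw [← map_mul]
      have := (Cleared.monomial (g := g) (π := π) (x := x) (e := fun _ : Unit => (1 : Ω)) (⟨1, hp.one_lt⟩ : Fin p) ()).smul hπ hg (algebraMap B L (π * π ^ n))
      simpa [hg] using this
  exact weaklyUnramified_of_le W (algebraMap K₁ Ω) pb.gen hlt fun z hz => hlayer.le_of_lt_one hp.pos z (hcl z) hz

/-- The inseparable extension is unramified after the extension. -/
theorem weakSolution_top {B C K L M K₁ : Type u} [CommRing B] [IsDomain B] [IsDiscreteValuationRing B]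
    [CommRing C] [IsDomain C] [IsLocalRing C] [Algebra B C] [IsLocalHom (algebraMap B C)]
    [Field K] [Field L] [Field M] [Field K₁] [Algebra K L] [Algebra L M] [Algebra K M] [IsScalarTower K L M]
    [Algebra B L] [IsFractionRing B L] [Algebra B M] [IsScalarTower B L M] [Algebra C M] [IsScalarTower B C M]
    [Algebra K K₁] [ExpChar L p] (pb : PowerBasis K K₁) {π : B} (hπ : Irreducible π)
    {πK : K} (hπK : algebraMap K L πK = algebraMap B L π) {n : ℕ} (hn : 1 ≤ n) (c : C) (w : B)
    (hc : c ^ p = algebraMap B C (π + π ^ n * w)) (hw : ∀ s : B, w - s ^ p ∉ IsLocalRing.maximalIdeal B)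
    (hspan : Algebra.adjoin L ({algebraMap C M c} : Set M) = ⊤)
    (hx : pb.gen ^ p = algebraMap K K₁ πK * (1 + algebraMap K K₁ (πK ^ n) * pb.gen)) :
    EtRam.IsWeakSolution C K M K₁ := by
  intro Ω _ _ _ _ _ _ hgen W hW
  let _ : Algebra L Ω := ((algebraMap M Ω).comp (algebraMap L M)).toAlgebra
  have : IsScalarTower L M Ω := IsScalarTower.of_algebraMap_eq fun _ => rfl
  have : ExpChar Ω p := expChar_of_injective_algebraMap (algebraMap L Ω).injective p
  let g := (algebraMap L Ω).comp (algebraMap B L)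
  have hg : ∀ b : B, g b = algebraMap L Ω (algebraMap B L b) := fun _ => rfl
  have hgC : ∀ b : B, g b = algebraMap M Ω (algebraMap C M (algebraMap B C b)) := fun b => by
    rw [hg, ← IsScalarTower.algebraMap_apply B C M, IsScalarTower.algebraMap_apply B L M, ← IsScalarTower.algebraMap_apply L M Ω]
  have hWB : (∀ b : B, g b ∈ W) ∧ ∀ b : B, b ∈ IsLocalRing.maximalIdeal B → W.valuation (g b) < 1 := by
    refine ⟨fun b => hgC b ▸ hW.1 _, fun b hb => hgC b ▸ hW.2 _ ?_⟩
    exact fun h => hb (IsUnit.of_map (algebraMap B C) b h)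
  let x := algebraMap K₁ Ω pb.gen
  let c' := algebraMap M Ω (algebraMap C M c)
  have hk : algebraMap K₁ Ω (algebraMap K K₁ πK) = g π := by
    rw [hg, ← hπK, ← IsScalarTower.algebraMap_apply K K₁ Ω, IsScalarTower.algebraMap_apply K M Ω,
      IsScalarTower.algebraMap_apply K L M, ← IsScalarTower.algebraMap_apply L M Ω]
  have hxp : x ^ p = g π * (1 + g (π ^ n) * x) := by
    rw [← map_pow, hx, map_mul, map_add, map_one, map_mul, hk, map_pow (algebraMap K K₁), map_pow, hk, ← map_pow]
  have hgπ : g π ≠ 0 := by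
    rw [hg]; exact (_root_.map_ne_zero _).2 ((map_ne_zero_iff _ (IsFractionRing.injective B L)).2 hπ.ne_zero)
  obtain ⟨h0, hlt, hpow, hone⟩ := root_valuation hp W g hWB hπ hgπ hn hxp
  have hcp : c' ^ p = g (π + π ^ n * w) := by rw [hgC, ← hc, map_pow, map_pow]
  let t : Ω := (1 + g (π ^ n) * x) ^ ((p - 1) * n)
  let P : Ω := (g π * x - g w) * t
  let y : Ω := (x - c') * x ^ ((p - 1) * n) / g (π ^ n)
  have hgn : g (π ^ n) ≠ 0 := by rw [map_pow]; exact pow_ne_zero _ hgπ
  have hy : y ^ p = P := by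
    simp only [y, P, t]
    rw [div_pow, mul_pow, sub_pow_expChar, hcp, ← pow_mul x, mul_comm ((p - 1) * n) p, pow_mul x, hxp, div_eq_iff (pow_ne_zero _ hgn),
      mul_pow (g π), map_add, map_mul, map_pow g]
    have e : (g π ^ n) * g π ^ ((p - 1) * n) = (g π ^ n) ^ p := by
      rw [← pow_add, ← pow_mul, mul_comm n p]
      congr 1
      conv_rhs => rw [show p = (p - 1) + 1 from (Nat.succ_pred_eq_of_pos hp.pos).symm]
      ring
    rw [← e]
    ring
  obtain ⟨d, hd, hvd⟩ : ∃ d, P = g (-w) + d ∧ W.valuation d < 1 := by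
    refine ⟨P - g (-w), by ring, ?_⟩
    have hxW : x ∈ W := (W.valuation_le_one_iff x).1 hlt.le
    have ht : W.valuation (t - 1) < 1 := by
      obtain ⟨q, hq⟩ := sub_dvd_pow_sub_pow (⟨1, W.one_mem⟩ + ⟨g (π ^ n), hWB.1 _⟩ * ⟨x, hxW⟩ : W) 1 ((p - 1) * n)
      have hq' := congrArg Subtype.val hq
      simp only [one_pow, AddSubgroupClass.coe_sub, SubmonoidClass.coe_pow, AddMemClass.coe_add, MulMemClass.coe_mul,
        OneMemClass.coe_one] at hq'
      rw [show t - 1 = _ from hq', add_sub_cancel_left, map_mul, map_mul]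
      refine mul_lt_one_of_nonneg_of_lt_one_left zero_le ?_ ((W.valuation_le_one_iff _).2 q.2)
      refine mul_lt_one_of_nonneg_of_lt_one_right ((W.valuation_le_one_iff _).2 (hWB.1 _)) zero_le hlt
    rw [show P - g (-w) = g π * x * t - g w * (t - 1) by rw [map_neg]; ring]
    refine Valuation.map_sub_lt _ ?_ ?_
    · rw [map_mul, map_mul, show W.valuation t = 1 by rw [map_pow, hone, one_pow], mul_one]
      exact mul_lt_one_of_nonneg_of_lt_one_right ((W.valuation_le_one_iff _).2 (hWB.1 _)) zero_le hlt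
    · rw [map_mul]
      exact mul_lt_one_of_nonneg_of_lt_one_right ((W.valuation_le_one_iff _).2 (hWB.1 _)) zero_le ht
  have : ExpChar B p := (RingHom.expChar_iff _ (IsFractionRing.injective B L) p).2 ‹_›
  have hr : ∀ s : B, -w - s ^ p ∉ IsLocalRing.maximalIdeal B := fun s hs => hw (-s) (by
    rw [show (-s : B) ^ p = 0 - s ^ p by rw [← zero_sub s, sub_pow_expChar, zero_pow hp.ne_zero]]
    rw [show w - (0 - s ^ p) = -(-w - s ^ p) by ring]
    exact neg_mem hs)
  let e : Fin p → Ω := fun j => y ^ (j : ℕ)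
  have hlayer : Layer W g p x e π := ⟨hπ, h0, hlt, hpow, indep_root W hWB hp (hd ▸ hy) hvd hr⟩
  -- the layer spans
  have h1 : Cleared g π p x e 1 := by
    simpa [e] using Cleared.monomial (g := g) (π := π) (x := x) (e := e) (⟨0, hp.pos⟩ : Fin p) (⟨0, hp.pos⟩ : Fin p)
  have hmulx : ∀ z, Cleared g π p x e z → Cleared g π p x e (x * z) := fun z => by
    refine Cleared.mul_of_monomials hπ hg fun i j => ?_
    rw [← mul_assoc, ← pow_succ']
    rcases lt_or_eq_of_le (Nat.succ_le_of_lt i.2) with hlt | heq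
    · exact Cleared.monomial (⟨_, hlt⟩ : Fin p) j
    · rw [show (i : ℕ) + 1 = p from heq, hxp, mul_add, add_mul, mul_one, ← mul_assoc (g π), ← map_mul, mul_assoc, hg, hg]
      refine Cleared.add (Cleared.smul hπ hg _ ?_) (Cleared.smul hπ hg _ ?_)
      · simpa using Cleared.monomial (g := g) (π := π) (x := x) (e := e) (⟨0, hp.pos⟩ : Fin p) j
      · simpa using Cleared.monomial (g := g) (π := π) (x := x) (e := e) (⟨1, hp.one_lt⟩ : Fin p) j
  have hPmem : P ∈ Algebra.adjoin L ({x} : Set Ω) := by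
    have hxm := Algebra.self_mem_adjoin_singleton L x
    have hgm : ∀ b, g b ∈ Algebra.adjoin L ({x} : Set Ω) := fun b => Subalgebra.algebraMap_mem _ (algebraMap B L b)
    exact mul_mem (sub_mem (mul_mem (hgm π) hxm) (hgm w)) (pow_mem (add_mem (one_mem _) (mul_mem (hgm _) hxm)) _)
  have hadj : ∀ s ∈ Algebra.adjoin L ({x} : Set Ω), ∀ z, Cleared g π p x e z → Cleared g π p x e (s * z) := by
    intro s hs
    induction hs using Algebra.adjoin_induction with
    | mem t ht => rw [Set.mem_singleton_iff.1 ht]; exact hmulx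
    | algebraMap l => exact fun z hz => hz.smul hπ hg l
    | add a b _ _ ha hb => exact fun z hz => by rw [add_mul]; exact (ha z hz).add (hb z hz)
    | mul a b _ _ ha hb => exact fun z hz => by rw [mul_assoc]; exact ha _ (hb z hz)
  have hmuly : ∀ i j, Cleared g π p x e (y * (x ^ (i : Fin p).1 * e j)) := fun i j => by
    rw [mul_left_comm, show y * e j = y ^ ((j : ℕ) + 1) from (pow_succ' y j).symm]
    rcases lt_or_eq_of_le (Nat.succ_le_of_lt j.2) with hlt | heq
    · exact Cleared.monomial i (⟨_, hlt⟩ : Fin p)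
    · rw [show (j : ℕ) + 1 = p from heq, hy]
      refine hadj _ (pow_mem (Algebra.self_mem_adjoin_singleton L x) _) _ ?_
      simpa using hadj P hPmem 1 h1
  have hcl : ∀ z, Cleared g π p x e z := fun z => by
    refine Cleared.adjoin hπ hg h1 (S := {x, y}) ?_ ?_
    · rintro s (rfl | rfl) i j
      · exact hmulx _ (Cleared.monomial i j)
      · exact hmuly i j
    · let S := Algebra.adjoin L ({x, y} : Set Ω)
      have hxS : x ∈ S := Algebra.subset_adjoin (Or.inl rfl)
      have hyS : y ∈ S := Algebra.subset_adjoin (Or.inr rfl)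
      have hinv : x⁻¹ ∈ S := by
        have : x⁻¹ = algebraMap L Ω (algebraMap B L π)⁻¹ * (x ^ (p - 1) - g π * g (π ^ n)) := by
          rw [map_inv₀, ← hg]
          refine (eq_inv_of_mul_eq_one_left ?_).symm
          rw [mul_assoc, sub_mul, ← pow_succ, show p - 1 + 1 = p from Nat.succ_pred_eq_of_pos hp.pos, hxp]
          field_simp; ring
        rw [this]
        exact mul_mem (Subalgebra.algebraMap_mem _ _) (sub_mem (pow_mem hxS _) (mul_mem (Subalgebra.algebraMap_mem _ _) (Subalgebra.algebraMap_mem _ _)))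
      have hcS : c' ∈ S := by
        have : c' = x - g (π ^ n) * y * x⁻¹ ^ ((p - 1) * n) := by
          simp only [y]
          rw [mul_div_cancel₀ _ hgn, mul_assoc, ← mul_pow, mul_inv_cancel₀ h0, one_pow, mul_one, sub_sub_cancel]
        rw [this]
        exact sub_mem hxS (mul_mem (mul_mem (Subalgebra.algebraMap_mem _ _) hyS) (pow_mem hinv _))
      have hM : ∀ m : M, algebraMap M Ω m ∈ S := fun m => by
        have hm : m ∈ Algebra.adjoin L ({algebraMap C M c} : Set M) := hspan ▸ Algebra.mem_top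
        induction hm using Algebra.adjoin_induction with
        | mem t ht => rw [ht]; exact hcS
        | algebraMap l => rw [← IsScalarTower.algebraMap_apply]; exact Subalgebra.algebraMap_mem _ _
        | add a b _ _ ha hb => rw [map_add]; exact add_mem ha hb
        | mul a b _ _ ha hb => rw [map_mul]; exact mul_mem ha hb
      have hz : z ∈ Algebra.adjoin M ({x} : Set Ω) := adjoin_root_range pb hgen ▸ Algebra.mem_top
      induction hz using Algebra.adjoin_induction with
      | mem t ht => rw [ht]; exact hxS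
      | algebraMap m => exact hM m
      | add a b _ _ ha hb => exact add_mem ha hb
      | mul a b _ _ ha hb => exact mul_mem ha hb
  exact weaklyUnramified_of_le W (algebraMap K₁ Ω) pb.gen hlt fun z hz => hlayer.le_of_lt_one hp.pos z (hcl z) hz

end EtRamStepLib
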