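import Groth.Agent.EtRamStepLib.Ext

/-! The step polynomial in arbitrary degree. -/

set_option autoImplicit false
universe u

noncomputable section

namespace EtRamStepLib

open Polynomial

theorem stepPoly_monic_gen {R : Type u} [CommRing R] (π : R) (N : ℕ) {p : ℕ} (hp : 1 < p) : (stepPoly π N p).Monic := by
  refine monic_X_pow_add ?_
  rw [degree_neg]
  exact lt_of_le_of_lt (degree_linear_le) (by exact_mod_cast hp)

theorem stepPoly_natDegree_gen {R : Type u} [CommRing R] [Nontrivial R] (π : R) (N : ℕ) {p : ℕ} (hp : 1 < p) :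
    (stepPoly π N p).natDegree = p := by
  rw [stepPoly, natDegree_add_eq_left_of_natDegree_lt, natDegree_X_pow]
  rw [natDegree_X_pow, natDegree_neg]
  exact lt_of_le_of_lt natDegree_linear_le hp

variable {p : ℕ} (hp : 1 < p)
include hp

theorem irreducible_stepPoly_gen {A K : Type u} [CommRing A] [IsDomain A] [IsDiscreteValuationRing A] [Field K] [Algebra A K]
    [IsFractionRing A K] {π : A} (hπ : Irreducible π) {N : ℕ} (hN : 1 ≤ N) :
    Irreducible (stepPoly (algebraMap A K π) N p) := by
  have hm := stepPoly_monic_gen π N hp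
  rw [← map_stepPoly, ← hm.irreducible_iff_irreducible_map_fraction_map]
  have hdeg := stepPoly_natDegree_gen π N hp
  have h0 : ∀ n, n < p → (stepPoly π N p).coeff n = -(if n = 1 then π ^ N else 0) - (if n = 0 then π else 0) := by
    intro n hn
    simp only [stepPoly, coeff_add, coeff_neg, coeff_X_pow, coeff_C_mul, coeff_X, coeff_C, if_neg hn.ne]
    rcases eq_or_ne n 1 with rfl | h1
    · simp
    · simp [h1, Ne.symm h1]
  refine Polynomial.IsEisensteinAt.irreducible (𝓟 := Ideal.span {π}) ⟨?_, fun {n} hn => ?_, ?_⟩ ?_ hm.isPrimitive (hdeg.symm ▸ (zero_lt_one.trans hp))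
  · rw [hm.leadingCoeff, Ideal.mem_span_singleton]
    exact fun h => hπ.not_isUnit (isUnit_of_dvd_one h)
  · rw [hdeg] at hn
    rw [h0 n hn, Ideal.mem_span_singleton]
    refine dvd_sub (dvd_neg.2 ?_) ?_
    · split_ifs with h
      · exact dvd_pow_self π (by omega)
      · exact dvd_zero _
    · split_ifs with h
      · exact dvd_rfl
      · exact dvd_zero _
  · rw [h0 0 (zero_lt_one.trans hp), Ideal.span_singleton_pow, Ideal.mem_span_singleton]
    simp only [zero_ne_one, if_false, if_true, neg_zero, zero_sub, dvd_neg]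
    intro h
    exact hπ.not_isUnit (isUnit_of_dvd_one ((mul_dvd_mul_iff_left hπ.ne_zero).1 (by rwa [mul_one, ← pow_two])))
  · exact (Ideal.span_singleton_prime hπ.ne_zero).2 hπ.prime

theorem root_valuation_gen {B Ω : Type u} [CommRing B] [IsDomain B] [IsDiscreteValuationRing B] [Field Ω]
    (W : ValuationSubring Ω) (g : B →+* Ω)
    (hdom : (∀ b : B, g b ∈ W) ∧ ∀ b : B, b ∈ IsLocalRing.maximalIdeal B → W.valuation (g b) < 1)
    {π : B} (hπ : Irreducible π) (hπ0 : g π ≠ 0) {n : ℕ} (hn : 1 ≤ n) {x : Ω}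
    (hx : x ^ p = g π * (1 + g (π ^ n) * x)) :
    x ≠ 0 ∧ W.valuation x < 1 ∧ W.valuation (g π) = W.valuation x ^ p ∧ W.valuation (1 + g (π ^ n) * x) = 1 := by
  have hvπ : W.valuation (g π) < 1 := hdom.2 π (by rw [hπ.maximalIdeal_eq]; exact Ideal.mem_span_singleton_self π)
  have hvn : W.valuation (g (π ^ n)) < 1 := by rw [map_pow, map_pow]; exact pow_lt_one₀ zero_le hvπ (by omega)
  have hle : W.valuation x ≤ 1 := by
    by_contra hgt
    push Not at hgt
    have h1 : W.valuation (1 + g (π ^ n) * x) ≤ W.valuation x := W.valuation.map_add_le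
      (by rw [map_one]; exact hgt.le) (by rw [map_mul]; exact mul_le_of_le_one_left zero_le hvn.le)
    have h2 : W.valuation x ^ p < W.valuation x := by
      rw [← map_pow, hx, map_mul]
      exact lt_of_le_of_lt (mul_le_mul_right h1 _) (mul_lt_of_lt_one_left (zero_lt_one.trans hgt) hvπ)
    exact not_le.2 h2 (le_self_pow₀ hgt.le (Nat.ne_of_gt (zero_lt_one.trans hp)))
  have hone : W.valuation (1 + g (π ^ n) * x) = 1 := by
    rw [Valuation.map_add_eq_of_lt_left, map_one]
    rw [map_one, map_mul]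
    exact mul_lt_one_of_nonneg_of_lt_one_left zero_le hvn hle
  have hpow : W.valuation (g π) = W.valuation x ^ p := by rw [← map_pow, hx, map_mul, hone, mul_one]
  refine ⟨fun h0 => hπ0 ?_, ?_, hpow, hone⟩
  · rw [h0, map_zero, zero_pow (Nat.ne_of_gt (zero_lt_one.trans hp)), map_eq_zero] at hpow
    exact hpow
  · refine lt_of_le_of_ne hle fun h1 => hvπ.ne ?_
    rw [hpow, h1, one_pow]

theorem totallyRamified_gen {A K K₁ : Type u} [CommRing A] [IsDomain A] [IsDiscreteValuationRing A] [Field K] [Algebra A K]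
    [IsFractionRing A K] [Field K₁] [Algebra K K₁] (pb : PowerBasis K K₁) {π : A} (hπ : Irreducible π) {n : ℕ} (hn : 1 ≤ n)
    (hx : pb.gen ^ p = algebraMap K K₁ (algebraMap A K π) * (1 + algebraMap K K₁ (algebraMap A K (π ^ n)) * pb.gen)) :
    EtRam.IsTotallyRamified A ((algebraMap K K₁).comp (algebraMap A K)) := by
  let g := (algebraMap K K₁).comp (algebraMap A K)
  have hginj : Function.Injective g := (algebraMap K K₁).injective.comp (IsFractionRing.injective A K)
  let x := pb.gen
  have hg : ∀ b : A, g b = algebraMap K K₁ (algebraMap A K b) := fun _ => rfl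
  have hgπ : g π ≠ 0 := (map_ne_zero_iff _ hginj).2 hπ.ne_zero
  have hlayer : ∀ V : ValuationSubring K₁, EtRam.Dominates A g V →
      Layer V g p x (fun _ : Unit => (1 : K₁)) π := fun V hV => by
    obtain ⟨h0, hlt, hpow, -⟩ := root_valuation_gen hp V g hV hπ hgπ hn hx
    exact ⟨hπ, h0, hlt, hpow, indep_unique V hV⟩
  have h1 : Cleared g π p x (fun _ : Unit => (1 : K₁)) 1 := by
    simpa using Cleared.monomial (g := g) (π := π) (x := x) (e := fun _ : Unit => (1 : K₁)) (⟨0, (zero_lt_one.trans hp)⟩ : Fin p) ()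
  have hcl : ∀ z, Cleared g π p x (fun _ : Unit => (1 : K₁)) z := fun z => by
    refine Cleared.adjoin hπ hg h1 (S := {x}) ?_ (pb.adjoin_gen_eq_top ▸ Algebra.mem_top)
    rintro _ rfl i ⟨⟩
    rw [mul_one, ← pow_succ']
    rcases lt_or_eq_of_le (Nat.succ_le_of_lt i.2) with hlt | heq
    · simpa using Cleared.monomial (g := g) (π := π) (x := x) (e := fun _ : Unit => (1 : K₁)) (⟨_, hlt⟩ : Fin p) ()
    · rw [show (i : ℕ) + 1 = p from heq, show x ^ p = g π * (1 + g (π ^ n) * x) from hx, mul_add, ← mul_assoc]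
      refine (h1.smul hπ hg _).add ?_
      rw [← map_mul]
      have := (Cleared.monomial (g := g) (π := π) (x := x) (e := fun _ : Unit => (1 : K₁)) (⟨1, hp⟩ : Fin p) ()).smul hπ hg (algebraMap A K (π * π ^ n))
      simpa [hg] using this
  have hmem : ∀ V : ValuationSubring K₁, EtRam.Dominates A g V → ∀ z, z ∈ V ↔
      ∃ q : Fin p → A, z = ∑ i : Fin p, x ^ (i : ℕ) * g (q i) := by
    intro V hV z
    constructor
    · intro hz
      obtain ⟨k, b, hb⟩ := hcl z
      choose q hq using (hlayer V hV).dvd_of_le_one (zero_lt_one.trans hp) k z b hb ((V.valuation_le_one_iff z).2 hz)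
      refine ⟨fun i => q i (), mul_left_cancel₀ ((map_ne_zero_iff _ hginj).2 (pow_ne_zero k hπ.ne_zero)) ?_⟩
      rw [hb, Finset.mul_sum]
      refine Finset.sum_congr rfl fun i _ => ?_
      simp only [Finset.univ_unique, Finset.sum_singleton, hq, map_mul, mul_one]
      rw [show (default : Unit) = () from rfl]
      ring
    · rintro ⟨q, rfl⟩
      exact sum_mem fun i _ => mul_mem (pow_mem ((V.valuation_le_one_iff _).1 (hlayer V hV).lt.le) _) (hV.1 _)
  refine ⟨?_, fun V V' h h' => SetLike.ext fun z => (hmem V h z).trans (hmem V' h' z).symm, fun V hV r => ?_⟩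
  · let I : Ideal g.range := Ideal.map g.rangeRestrict (IsLocalRing.maximalIdeal A)
    have hI : I ≠ ⊤ := by
      intro htop
      let e := RingEquiv.ofBijective g.rangeRestrict ⟨fun a b h => hginj (congrArg Subtype.val h), g.rangeRestrict_surjective⟩
      have := congrArg (Ideal.comap g.rangeRestrict) htop
      rw [Ideal.comap_map_of_bijective g.rangeRestrict e.bijective, Ideal.comap_top] at this
      exact (IsLocalRing.maximalIdeal.isMaximal A).ne_top this
    obtain ⟨V, hle, hnu⟩ := Ideal.image_subset_nonunits_valuationSubring I hI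
    refine ⟨V, fun a => hle ⟨a, rfl⟩, fun a ha => ?_⟩
    have := hnu ⟨g.rangeRestrict a, Ideal.mem_map_of_mem _ ha, rfl⟩
    exact (ValuationSubring.mem_nonunits_iff _).1 this
  · obtain ⟨⟨z, hz⟩, rfl⟩ := IsLocalRing.residue_surjective r
    obtain ⟨q, hq⟩ := (hmem V hV z).1 hz
    refine ⟨q ⟨0, (zero_lt_one.trans hp)⟩, ?_⟩
    show IsLocalRing.residue V (RingHom.codRestrict g V hV.1 (q ⟨0, (zero_lt_one.trans hp)⟩)) = _
    rw [← sub_eq_zero, ← map_sub, IsLocalRing.residue_eq_zero_iff, V.valuation_lt_one_iff]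
    show V.valuation (g (q ⟨0, (zero_lt_one.trans hp)⟩) - z) < 1
    rw [hq, ← Finset.add_sum_erase _ _ (Finset.mem_univ (⟨0, (zero_lt_one.trans hp)⟩ : Fin p))]
    simp only [pow_zero, one_mul, sub_add_cancel_left, Valuation.map_neg]
    refine Valuation.map_sum_lt _ one_ne_zero fun i hi => ?_
    rw [map_mul, map_pow]
    refine mul_lt_one_of_nonneg_of_lt_one_left zero_le (pow_lt_one₀ zero_le (hlayer V hV).lt fun h0 => ?_) ((V.valuation_le_one_iff _).2 (hV.1 _))
    exact (Finset.mem_erase.1 hi).1 (Fin.ext h0)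


end EtRamStepLib
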