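import Groth.Agent.EtRamStepLib.Val
import Groth.Prelude.Def_EtRam
import Mathlib.FieldTheory.Minpoly.Field
import Mathlib.RingTheory.Polynomial.Basic

/-! Clearing denominators in monomial spans and independence of residues of `p`-th roots. -/

set_option autoImplicit false
universe u v

noncomputable section

namespace EtRamStepLib

open Polynomial

variable {B : Type u} [CommRing B] [IsDomain B] [IsDiscreteValuationRing B]
  {Ω : Type v} [Field Ω] (g : B →+* Ω) (π : B) (p : ℕ) (x : Ω) {J : Type} [Fintype J] (e : J → Ω)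

/-- Elements which are combinations of monomials after inverting the uniformiser. -/
def Cleared (z : Ω) : Prop :=
  ∃ (k : ℕ) (b : Fin p → J → B), g (π ^ k) * z = ∑ i : Fin p, x ^ (i : ℕ) * ∑ j, g (b i j) * e j

variable {g π p x e}

theorem Cleared.zero : Cleared g π p x e 0 := ⟨0, 0, by simp⟩

theorem Cleared.add {z z' : Ω} (h : Cleared g π p x e z) (h' : Cleared g π p x e z') :
    Cleared g π p x e (z + z') := by
  obtain ⟨k, b, hb⟩ := h
  obtain ⟨k', b', hb'⟩ := h'
  refine ⟨k + k', fun i j => π ^ k' * b i j + π ^ k * b' i j, ?_⟩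
  have : g (π ^ (k + k')) * (z + z') = g (π ^ k') * (g (π ^ k) * z) + g (π ^ k) * (g (π ^ k') * z') := by
    rw [pow_add, map_mul]; ring
  rw [this, hb, hb', Finset.mul_sum, Finset.mul_sum, ← Finset.sum_add_distrib]
  refine Finset.sum_congr rfl fun i _ => ?_
  rw [mul_left_comm, mul_left_comm _ (x ^ (i : ℕ)), ← mul_add, Finset.mul_sum, Finset.mul_sum, ← Finset.sum_add_distrib]
  refine congrArg _ (Finset.sum_congr rfl fun j _ => ?_)
  simp only [map_add, map_mul]; ring

theorem Cleared.monomial (i : Fin p) (j : J) : Cleared g π p x e (x ^ (i : ℕ) * e j) := by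
  classical
  refine ⟨0, fun i' j' => if i' = i ∧ j' = j then 1 else 0, ?_⟩
  rw [pow_zero, map_one, one_mul, Finset.sum_eq_single i (fun i' _ hne => by simp [hne]) (fun h => absurd (Finset.mem_univ i) h),
    Finset.sum_eq_single j (fun j' _ hne => by simp [hne]) (fun h => absurd (Finset.mem_univ j) h)]
  simp

variable {L : Type*} [Field L] [Algebra L Ω] [Algebra B L] [IsFractionRing B L] (hπ : Irreducible π)
  (hg : ∀ b : B, g b = algebraMap L Ω (algebraMap B L b))

include hπ hg

theorem Cleared.smul (l : L) {z : Ω} (h : Cleared g π p x e z) : Cleared g π p x e (algebraMap L Ω l * z) := by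
  obtain ⟨k, b, hb⟩ := h
  obtain ⟨a, s, hs, rfl⟩ := IsFractionRing.div_surjective (A := B) l
  obtain ⟨m, u, hu⟩ := IsDiscreteValuationRing.eq_unit_mul_pow_irreducible (nonZeroDivisors.ne_zero hs) hπ
  refine ⟨k + m, fun i j => a * (u⁻¹ : Bˣ) * b i j, ?_⟩
  have hs0 : g s ≠ 0 := by
    rw [hg]
    exact (_root_.map_ne_zero _).2 ((map_ne_zero_iff _ (IsFractionRing.injective B L)).2 (nonZeroDivisors.ne_zero hs))
  have hgu : g π ^ m = g (u⁻¹ : Bˣ) * g s := by
    rw [← map_mul, ← map_pow, hu, ← mul_assoc, Units.inv_mul, one_mul]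
  have : g (π ^ (k + m)) * (algebraMap L Ω (algebraMap B L a / algebraMap B L s) * z) =
      g (a * (u⁻¹ : Bˣ)) * (g (π ^ k) * z) := by
    rw [map_div₀, ← hg, ← hg, map_mul, map_pow, map_pow, pow_add, hgu]
    field_simp
  rw [this, hb, Finset.mul_sum]
  refine Finset.sum_congr rfl fun i _ => ?_
  rw [mul_left_comm, Finset.mul_sum]
  refine congrArg _ (Finset.sum_congr rfl fun j _ => ?_)
  simp only [map_mul]; ring

/-- A set of multipliers preserving the span. -/
theorem Cleared.mul_of_monomials {t : Ω} (ht : ∀ i j, Cleared g π p x e (t * (x ^ (i : Fin p).1 * e j)))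
    {z : Ω} (h : Cleared g π p x e z) : Cleared g π p x e (t * z) := by
  classical
  obtain ⟨k, b, hb⟩ := h
  have hs : Cleared g π p x e (t * (g (π ^ k) * z)) := by
    rw [hb, Finset.mul_sum]
    refine Finset.sum_induction _ _ (fun a c => Cleared.add) Cleared.zero fun i _ => ?_
    rw [Finset.mul_sum, Finset.mul_sum]
    refine Finset.sum_induction _ _ (fun a c => Cleared.add) Cleared.zero fun j _ => ?_
    rw [show t * (x ^ (i : ℕ) * (g (b i j) * e j)) = g (b i j) * (t * (x ^ (i : ℕ) * e j)) by ring, hg]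
    exact Cleared.smul hπ hg _ (ht i j)
  obtain ⟨k', b', hb'⟩ := hs
  exact ⟨k' + k, b', by rw [← hb', pow_add, map_mul]; ring⟩

theorem Cleared.adjoin {S : Set Ω} (h1 : Cleared g π p x e 1)
    (hS : ∀ t ∈ S, ∀ i j, Cleared g π p x e (t * (x ^ (i : Fin p).1 * e j))) {z : Ω} (hz : z ∈ Algebra.adjoin L S) :
    Cleared g π p x e z := by
  suffices ∀ w, Cleared g π p x e w → Cleared g π p x e (z * w) by simpa using this 1 h1
  induction hz using Algebra.adjoin_induction with
  | mem t ht => exact fun w hw => Cleared.mul_of_monomials hπ hg (hS t ht) hw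
  | algebraMap l => exact fun w hw => Cleared.smul hπ hg l hw
  | add a b _ _ ha hb => exact fun w hw => by rw [add_mul]; exact (ha w hw).add (hb w hw)
  | mul a b _ _ ha hb => exact fun w hw => by rw [mul_assoc]; exact ha _ (hb w hw)

omit hπ hg

variable (W : ValuationSubring Ω) (hdom : (∀ b : B, g b ∈ W) ∧ ∀ b : B, b ∈ IsLocalRing.maximalIdeal B → W.valuation (g b) < 1)

include hdom

theorem valuation_eq_one_of_isUnit {b : B} (hb : IsUnit b) : W.valuation (g b) = 1 := by
  obtain ⟨c, hc⟩ := isUnit_iff_exists_inv.1 hb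
  refine le_antisymm ((W.valuation_le_one_iff _).2 (hdom.1 b)) (not_lt.1 fun hlt => ?_)
  have h1 : W.valuation (g b * g c) = 1 := by rw [← map_mul, hc, map_one, map_one]
  rw [map_mul] at h1
  exact (mul_lt_one_of_nonneg_of_lt_one_left zero_le hlt ((W.valuation_le_one_iff _).2 (hdom.1 c))).ne h1

theorem indep_unique (b : Unit → B) (hb : ∃ j, IsUnit (b j)) :
    W.valuation (∑ j, g (b j) * (1 : Ω)) = 1 := by
  obtain ⟨⟨⟩, hu⟩ := hb
  simpa using valuation_eq_one_of_isUnit W hdom hu

/-- Powers of an element whose `p`-th power has a residue which is not a `p`-th power. -/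
theorem indep_root (hp : p.Prime) {y : Ω} {r : B} {d : Ω} (hy : y ^ p = g r + d) (hd : W.valuation d < 1)
    (hr : ∀ s : B, r - s ^ p ∉ IsLocalRing.maximalIdeal B) (b : Fin p → B) (hb : ∃ j, IsUnit (b j)) :
    W.valuation (∑ j, g (b j) * y ^ (j : ℕ)) = 1 := by
  classical
  have hyW : y ∈ W := by
    refine (W.valuation_le_one_iff y).1 (not_lt.1 fun hlt => ?_)
    have : W.valuation (y ^ p) ≤ 1 := by
      rw [hy]; exact W.valuation.map_add_le ((W.valuation_le_one_iff _).2 (hdom.1 r)) hd.le
    rw [map_pow] at this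
    exact not_le.2 (one_lt_pow₀ hlt hp.ne_zero) this
  let g' : B →+* W := g.codRestrict W.toSubring hdom.1
  have : IsLocalHom g' := ⟨fun b hb' => by
    by_contra hn
    exact ((W.valuation_lt_one_iff (g' b)).2 (hdom.2 b hn)) hb'⟩
  let ι := IsLocalRing.ResidueField.map g'
  let yb := IsLocalRing.residue W ⟨y, hyW⟩
  let _ := ι.toAlgebra
  have hdW : d ∈ W := (W.valuation_le_one_iff d).1 hd.le
  have hyb : yb ^ p = ι (IsLocalRing.residue B r) := by
    rw [← map_pow, IsLocalRing.ResidueField.map_residue, ← sub_eq_zero, ← map_sub, IsLocalRing.residue_eq_zero_iff,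
      W.valuation_lt_one_iff]
    show W.valuation (y ^ p - g r) < 1
    rw [hy, add_sub_cancel_left]; exact hd
  have hirr : Irreducible (X ^ p - C (IsLocalRing.residue B r)) :=
    X_pow_sub_C_irreducible_of_prime hp fun s hs => by
      obtain ⟨s, rfl⟩ := IsLocalRing.residue_surjective s
      rw [← map_pow, eq_comm, ← sub_eq_zero, ← map_sub, IsLocalRing.residue_eq_zero_iff] at hs
      exact hr s hs
  have hmin : minpoly (IsLocalRing.ResidueField B) yb = X ^ p - C (IsLocalRing.residue B r) := by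
    refine (minpoly.eq_of_irreducible_of_monic hirr ?_ (monic_X_pow_sub_C _ hp.ne_zero)).symm
    simp only [map_sub, map_pow, aeval_X, aeval_C]
    rw [hyb]; exact sub_self _
  let P : (IsLocalRing.ResidueField B)[X] := ∑ j : Fin p, C (IsLocalRing.residue B (b j)) * X ^ (j : ℕ)
  have hP0 : P ≠ 0 := by
    obtain ⟨j, hj⟩ := hb
    intro h0
    have h1 := congrArg (fun q => q.coeff (j : ℕ)) h0
    simp only [P, finsetSum_coeff, coeff_C_mul, coeff_X_pow, coeff_zero] at h1
    rw [Finset.sum_eq_single j (fun i _ hne => by simp [(Fin.val_ne_iff.2 hne).symm]) (fun h => absurd (Finset.mem_univ j) h)] at h1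
    simp only [if_true, mul_one] at h1
    exact (IsLocalRing.residue_ne_zero_iff_isUnit _).2 hj h1
  have hdeg : P.natDegree < p := by
    refine lt_of_le_of_lt (natDegree_sum_le_of_forall_le _ _ (n := p - 1) fun j _ => ?_) (Nat.sub_one_lt hp.ne_zero)
    exact (natDegree_C_mul_X_pow_le _ _).trans (by omega)
  have hne : aeval yb P ≠ 0 := fun h0 => by
    have h1 := Polynomial.natDegree_le_of_dvd (minpoly.dvd _ _ h0) hP0
    rw [hmin, natDegree_X_pow_sub_C] at h1
    omega
  have hsum : ∑ j, g (b j) * y ^ (j : ℕ) = ((∑ j, g' (b j) * ⟨y, hyW⟩ ^ (j : ℕ) : W) : Ω) := by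
    simp [g']
  rw [hsum, ← W.valuation_eq_one_iff]
  by_contra hn
  refine hne ?_
  have h2 := (IsLocalRing.residue_eq_zero_iff _).2 (show (∑ j, g' (b j) * (⟨y, hyW⟩ : W) ^ (j : ℕ)) ∈ IsLocalRing.maximalIdeal W from hn)
  rw [map_sum] at h2
  simp only [map_mul, map_pow] at h2
  simp only [P, map_sum, map_mul, map_pow, aeval_X, aeval_C]
  rw [← h2]
  rfl

end EtRamStepLib
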