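import Groth.Agent.EtRamStepLib.Setup
import Groth.Agent.MoriLib.DVR
import Groth.Agent.NormalLib.Transfer
import Groth.Agent.SemilocalNormLib.Main
import Mathlib.FieldTheory.PurelyInseparable.Tower
import Mathlib.RingTheory.Polynomial.Eisenstein.Basic
import Mathlib.RingTheory.AdjoinRoot

/-! A purely inseparable step of prime degree between discrete valuation rings. -/

set_option autoImplicit false
universe u

noncomputable section

namespace EtRamStepLib

open Polynomial
open scoped TensorProduct

theorem charP_of_finrank {L M : Type u} [Field L] [Field M] [Algebra L M] [IsPurelyInseparable L M]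
    {p : ℕ} (hp : p.Prime) (hdeg : Module.finrank L M = p) : ExpChar L p := by
  have : FiniteDimensional L M := FiniteDimensional.of_finrank_pos (hdeg ▸ hp.pos)
  let q := ringExpChar L
  obtain ⟨n, hn⟩ := IsPurelyInseparable.finrank_eq_pow (F := L) (E := M) q
  rw [hdeg] at hn
  have hn1 : n = 1 := by
    by_contra hne
    exact Nat.Prime.not_prime_pow' hne (hn ▸ hp)
  rw [hn1, pow_one] at hn
  rw [hn]
  infer_instance

theorem pow_mem_range {L M : Type u} [Field L] [Field M] [Algebra L M] [IsPurelyInseparable L M]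
    {p : ℕ} (hp : p.Prime) (hdeg : Module.finrank L M = p) (x : M) : ∃ l : L, algebraMap L M l = x ^ p := by
  have := charP_of_finrank hp hdeg
  have : FiniteDimensional L M := FiniteDimensional.of_finrank_pos (hdeg ▸ hp.pos)
  obtain ⟨n, l, h⟩ := IsPurelyInseparable.minpoly_eq_X_pow_sub_C L p x
  have hdvd : p ^ n ∣ p := by
    have := minpoly.degree_dvd (K := L) (IsIntegral.of_finite L x)
    rwa [h, natDegree_X_pow_sub_C, hdeg] at this
  have hroot := minpoly.aeval L x
  rw [h, map_sub, map_pow, aeval_X, aeval_C, sub_eq_zero] at hroot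
  rcases (Nat.dvd_prime hp).1 hdvd with h1 | h1
  · rw [h1, pow_one] at hroot
    exact ⟨l ^ p, by rw [map_pow, hroot]⟩
  · rw [h1] at hroot
    exact ⟨l, hroot.symm⟩

theorem adjoin_eq_top_of_prime_finrank {L M : Type u} [Field L] [Field M] [Algebra L M] {p : ℕ} (hp : p.Prime)
    (hdeg : Module.finrank L M = p) {c : M} (hc : c ∉ Set.range (algebraMap L M)) :
    Algebra.adjoin L ({c} : Set M) = ⊤ := by
  have : FiniteDimensional L M := FiniteDimensional.of_finrank_pos (hdeg ▸ hp.pos)
  have := Subalgebra.isSimpleOrder_of_finrank_prime L M (hdeg ▸ hp)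
  rcases eq_bot_or_eq_top (Algebra.adjoin L ({c} : Set M)) with h | h
  · exact absurd (Algebra.mem_bot.1 (h ▸ Algebra.self_mem_adjoin_singleton L c)) hc
  · exact h

variable {p : ℕ} (hp : p.Prime) {B C L M : Type u} [CommRing B] [IsDomain B] [IsDiscreteValuationRing B]
  [CommRing C] [IsDomain C] [IsDiscreteValuationRing C] [Algebra B C] [IsLocalHom (algebraMap B C)]
  [Field L] [Field M] [Algebra B L] [IsFractionRing B L] [Algebra C M] [IsFractionRing C M]
  [Algebra L M] [Algebra B M] [IsScalarTower B L M] [IsScalarTower B C M] [IsPurelyInseparable L M]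
  (hdeg : Module.finrank L M = p)

theorem exists_algebraMap_eq_of_mem (l : L) (c : C) (h : algebraMap L M l = algebraMap C M c) :
    ∃ b : B, algebraMap B L b = l := by
  by_cases hl0 : l = 0
  · exact ⟨0, by rw [hl0, map_zero]⟩
  rcases ValuationRing.isInteger_or_isInteger B l with h' | h'
  · exact h'
  obtain ⟨b, hb⟩ := h'
  have h1 : algebraMap C M (algebraMap B C b * c) = 1 := by
    rw [map_mul, ← IsScalarTower.algebraMap_apply, IsScalarTower.algebraMap_apply B L M, hb, ← h, ← map_mul,
      inv_mul_cancel₀ hl0, map_one]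
  have h2 : algebraMap B C b * c = 1 := IsFractionRing.injective C M (by rw [h1, map_one])
  obtain ⟨u, hu⟩ := IsUnit.of_map (algebraMap B C) b (IsUnit.of_mul_eq_one c h2)
  refine ⟨(u⁻¹ : Bˣ), ?_⟩
  have h3 : algebraMap B L (u : B) * algebraMap B L (u⁻¹ : Bˣ) = 1 := by rw [← map_mul, Units.mul_inv, map_one]
  rw [hu, hb] at h3
  exact ((eq_inv_mul_iff_mul_eq₀ (inv_ne_zero hl0)).2 h3).trans (by rw [inv_inv, mul_one])

include hp hdeg

theorem exists_pow_eq (c : C) : ∃ b : B, algebraMap B C b = c ^ p := by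
  obtain ⟨l, hl⟩ := pow_mem_range hp hdeg (algebraMap C M c)
  obtain ⟨b, hb⟩ := exists_algebraMap_eq_of_mem (B := B) l (c ^ p) (by rw [hl, map_pow])
  refine ⟨b, IsFractionRing.injective C M ?_⟩
  rw [← IsScalarTower.algebraMap_apply, IsScalarTower.algebraMap_apply B L M, hb, hl, map_pow]

theorem exists_uniformizer_pow {π : B} (hπ : Irreducible π) (hinj : Function.Injective (algebraMap B C))
    (hnot : (IsLocalRing.maximalIdeal B).map (algebraMap B C) ≠ IsLocalRing.maximalIdeal C) :
    ∃ (c : C) (u : Bˣ), c ^ p = algebraMap B C (u * π) := by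
  obtain ⟨τ, hτ⟩ := IsDiscreteValuationRing.exists_irreducible C
  obtain ⟨b, hb⟩ := exists_pow_eq (B := B) hp hdeg τ
  have hb0 : b ≠ 0 := fun h => pow_ne_zero p hτ.ne_zero (by rw [← hb, h, map_zero])
  obtain ⟨j, u, hbu⟩ := IsDiscreteValuationRing.eq_unit_mul_pow_irreducible hb0 hπ
  obtain ⟨e, v, hv⟩ := IsDiscreteValuationRing.eq_unit_mul_pow_irreducible
    ((map_ne_zero_iff _ hinj).2 hπ.ne_zero) hτ
  rw [hbu, map_mul, map_pow, hv, mul_pow, ← pow_mul, ← mul_assoc] at hb
  let w : Cˣ := Units.map (algebraMap B C).toMonoidHom u * v ^ j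
  have hw : (w : C) * τ ^ (e * j) = ((1 : Cˣ) : C) * τ ^ p := by
    rw [Units.val_one, one_mul, ← hb]; simp [w]
  have hej : e * j = p := (IsDiscreteValuationRing.unit_mul_pow_congr_pow hτ hτ w 1 (e * j) p hw)
  rcases (Nat.dvd_prime hp).1 ⟨j, hej.symm⟩ with he | he
  · refine absurd ?_ hnot
    rw [hπ.maximalIdeal_eq, Ideal.map_span, Set.image_singleton, hτ.maximalIdeal_eq, hv, he, pow_one]
    exact (Ideal.span_singleton_mul_left_unit v.isUnit τ)
  · have hj : j = 1 := by
      rw [he] at hej
      exact Nat.eq_of_mul_eq_mul_left hp.pos (by rw [hej, mul_one])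
    refine ⟨τ, u, ?_⟩
    obtain ⟨b', hb'⟩ := exists_pow_eq (B := B) hp hdeg τ
    rw [← one_mul (τ ^ p), ← Units.val_one, ← hw, map_mul, hv, hj, mul_one]
    simp [w, hj, mul_assoc]

variable [IsLocalHom (algebraMap B C)]

theorem layer_C {π : B} (hπ : Irreducible π) (c : C) (u : Bˣ) (hc : c ^ p = algebraMap B C (u * π)) :
    Layer (MoriLib.rangeValuationSubring (D := C) (L := M)) (algebraMap B M) p (algebraMap C M c)
      (fun _ : Unit => (1 : M)) π := by
  let W := MoriLib.rangeValuationSubring (D := C) (L := M)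
  have hdom : (∀ b : B, algebraMap B M b ∈ W) ∧
      ∀ b : B, b ∈ IsLocalRing.maximalIdeal B → W.valuation (algebraMap B M b) < 1 := by
    refine ⟨fun b => ⟨algebraMap B C b, (IsScalarTower.algebraMap_apply B C M b).symm⟩, fun b hb => ?_⟩
    refine lt_of_le_of_ne ((W.valuation_le_one_iff _).2 ⟨algebraMap B C b, (IsScalarTower.algebraMap_apply B C M b).symm⟩) fun h1 => hb ?_
    have hne : algebraMap B M b ≠ 0 := fun h0 => by simp [h0] at h1
    obtain ⟨c', hc'⟩ := (W.valuation_le_one_iff (algebraMap B M b)⁻¹).1 (by rw [map_inv₀, h1, inv_one])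
    refine IsUnit.of_map (algebraMap B C) b (IsUnit.of_mul_eq_one c' (IsFractionRing.injective C M ?_))
    rw [map_mul, hc', ← IsScalarTower.algebraMap_apply, mul_inv_cancel₀ hne, map_one]
  have hpow : W.valuation (algebraMap B M π) = W.valuation (algebraMap C M c) ^ p := by
    rw [← map_pow, ← map_pow, hc, ← IsScalarTower.algebraMap_apply, map_mul, map_mul,
      valuation_eq_one_of_isUnit W hdom u.isUnit, one_mul]
  have hlt : W.valuation (algebraMap B M π) < 1 := hdom.2 π (by rw [hπ.maximalIdeal_eq]; exact Ideal.mem_span_singleton_self π)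
  refine ⟨hπ, fun h0 => ?_, ?_, hpow, indep_unique W hdom⟩
  · have h1 := congrArg (algebraMap C M) hc
    rw [map_pow, h0, zero_pow hp.ne_zero, ← IsScalarTower.algebraMap_apply, IsScalarTower.algebraMap_apply B L M,
      eq_comm, map_eq_zero, map_eq_zero_iff _ (IsFractionRing.injective B L)] at h1
    exact mul_ne_zero u.ne_zero hπ.ne_zero h1
  · by_contra hn
    exact not_le.2 hlt (hpow ▸ one_le_pow₀ (not_lt.1 hn))

theorem not_mem_range {π : B} (hπ : Irreducible π) (c : C) (u : Bˣ) (hc : c ^ p = algebraMap B C (u * π))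
    (hinj : Function.Injective (algebraMap B C)) :
    algebraMap C M c ∉ Set.range (algebraMap L M) := by
  rintro ⟨l, hl⟩
  obtain ⟨b, hb⟩ := exists_algebraMap_eq_of_mem (B := B) l c hl
  have : b ^ p = u * π := by
    refine hinj (IsFractionRing.injective C M ?_)
    rw [map_pow, map_pow, ← IsScalarTower.algebraMap_apply, IsScalarTower.algebraMap_apply B L M, hb, hl, ← map_pow, hc]
  have hirr : Irreducible (b ^ p) := by rw [this, irreducible_units_mul]; exact hπ
  exact not_irreducible_pow hp.ne_one hirr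

theorem cleared_C {π : B} (hπ : Irreducible π) (c : C) (u : Bˣ) (hc : c ^ p = algebraMap B C (u * π))
    (hinj : Function.Injective (algebraMap B C)) (z : M) :
    Cleared (algebraMap B M) π p (algebraMap C M c) (fun _ : Unit => (1 : M)) z := by
  have hg : ∀ b : B, algebraMap B M b = algebraMap L M (algebraMap B L b) := IsScalarTower.algebraMap_apply B L M
  let x := algebraMap C M c
  have h1 : Cleared (algebraMap B M) π p x (fun _ : Unit => (1 : M)) 1 := by
    simpa using Cleared.monomial (g := algebraMap B M) (π := π) (x := x) (e := fun _ : Unit => (1 : M)) (⟨0, hp.pos⟩ : Fin p) ()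
  refine Cleared.adjoin hπ hg h1 (S := {x}) ?_ (adjoin_eq_top_of_prime_finrank hp hdeg (not_mem_range hp hdeg hπ c u hc hinj) ▸ Algebra.mem_top)
  rintro _ rfl i ⟨⟩
  rw [mul_one, ← pow_succ']
  rcases lt_or_eq_of_le (Nat.succ_le_of_lt i.2) with hlt | heq
  · simpa using Cleared.monomial (g := algebraMap B M) (π := π) (x := x) (e := fun _ : Unit => (1 : M)) (⟨_, hlt⟩ : Fin p) ()
  · rw [show (i : ℕ) + 1 = p from heq, ← map_pow, hc, ← IsScalarTower.algebraMap_apply, hg, ← mul_one (algebraMap L M _)]
    exact h1.smul hπ hg _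

theorem adjoin_eq_top {π : B} (hπ : Irreducible π) (c : C) (u : Bˣ) (hc : c ^ p = algebraMap B C (u * π))
    (hinj : Function.Injective (algebraMap B C)) : Algebra.adjoin B ({c} : Set C) = ⊤ := by
  refine eq_top_iff.2 fun z _ => ?_
  obtain ⟨k, b, hb⟩ := cleared_C hp hdeg hπ c u hc hinj (algebraMap C M z)
  have hdvd := (layer_C hp hdeg hπ c u hc).dvd_of_le_one hp.pos k _ b hb
    ((ValuationSubring.valuation_le_one_iff _ _).2 ⟨z, rfl⟩)
  choose q hq using hdvd
  have : z = ∑ i : Fin p, c ^ (i : ℕ) * algebraMap B C (q i ()) := by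
    refine IsFractionRing.injective C M (mul_left_cancel₀ (b := algebraMap C M z) (a := algebraMap B M (π ^ k)) ?_ ?_)
    · rw [IsScalarTower.algebraMap_apply B L M]
      exact (_root_.map_ne_zero _).2 ((map_ne_zero_iff _ (IsFractionRing.injective B L)).2 (pow_ne_zero _ hπ.ne_zero))
    · rw [hb, map_sum, Finset.mul_sum]
      refine Finset.sum_congr rfl fun i _ => ?_
      simp only [hq, Finset.univ_unique, Finset.sum_singleton, map_mul, map_pow, ← IsScalarTower.algebraMap_apply, mul_one]
      rw [show (default : Unit) = () from rfl]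
      ring
  rw [this]
  exact Subalgebra.sum_mem _ fun i _ => Subalgebra.mul_mem _ (Subalgebra.pow_mem _ (Algebra.self_mem_adjoin_singleton B c) _) (Subalgebra.algebraMap_mem _ _)

/-- The best approximation of the uniformiser by `p`-th powers. -/
theorem exists_max {π : B} (hπ : Irreducible π) (hB : CAlg.IsNagata B) (hinj : Function.Injective (algebraMap B C))
    (hex : ∃ (c : C) (u : Bˣ), c ^ p = algebraMap B C (u * π)) (hne : ∀ c : C, c ^ p ≠ algebraMap B C π) :
    ∃ (n : ℕ) (c : C) (w : B), 1 ≤ n ∧ IsUnit w ∧ c ^ p = algebraMap B C (π + π ^ n * w) ∧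
      ∀ s : B, w - s ^ p ∉ IsLocalRing.maximalIdeal B := by
  classical
  let Q : ℕ → Prop := fun n => ∃ (c : C) (u : Bˣ) (w : B), c ^ p = algebraMap B C (u * π) ∧ (u : B) * π = π + π ^ n * w
  have : ExpChar L p := charP_of_finrank hp hdeg
  have : ExpChar B p := (RingHom.expChar_iff _ (IsFractionRing.injective B L) p).2 ‹_›
  have : ExpChar M p := expChar_of_injective_algebraMap (algebraMap L M).injective p
  have : ExpChar C p := (RingHom.expChar_iff _ (IsFractionRing.injective C M) p).2 ‹_›
  -- approximations are bounded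
  have hbdd : ∃ n, 1 ≤ n ∧ ¬ Q n := by
    by_contra hall
    push Not at hall
    -- a root of `X ^ p - π` outside `M`
    have hirr : Irreducible (X ^ p - Polynomial.C (algebraMap B M π)) := X_pow_sub_C_irreducible_of_prime hp fun m hm => by
      rcases ValuationRing.isInteger_or_isInteger C m with h | h
      · obtain ⟨c, hc⟩ := h
        subst hc
        exact hne c (IsFractionRing.injective C M (by rw [map_pow, hm, IsScalarTower.algebraMap_apply B C M]))
      · obtain ⟨c, hc⟩ := h
        have h1 : c ^ p * algebraMap B C π = 1 := IsFractionRing.injective C M (by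
          rw [map_mul, map_pow, hc, ← IsScalarTower.algebraMap_apply, ← hm, ← mul_pow, inv_mul_cancel₀, one_pow, map_one]
          rintro rfl
          rw [zero_pow hp.ne_zero, IsScalarTower.algebraMap_apply B L M, eq_comm, map_eq_zero,
            map_eq_zero_iff _ (IsFractionRing.injective B L)] at hm
          exact hπ.ne_zero hm)
        exact hπ.not_isUnit (IsUnit.of_map (algebraMap B C) π (IsUnit.of_mul_eq_one _ (by rwa [mul_comm] at h1)))
    have := Fact.mk hirr
    let f : M[X] := X ^ p - Polynomial.C (algebraMap B M π)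
    let M₂ := AdjoinRoot f
    have : FiniteDimensional M M₂ := (monic_X_pow_sub_C _ hp.ne_zero).finite_adjoinRoot
    have : FiniteDimensional L M := FiniteDimensional.of_finrank_pos (hdeg ▸ hp.pos)
    have : FiniteDimensional L M₂ := Module.Finite.trans M M₂
    have : IsScalarTower B L M₂ := IsScalarTower.of_algebraMap_eq fun b => by
      rw [IsScalarTower.algebraMap_apply B M M₂, IsScalarTower.algebraMap_apply B L M, ← IsScalarTower.algebraMap_apply L M M₂]
    have hN2 : CAlg.IsN2 B := NormalLib.isN2_of_ringEquiv (RingEquiv.quotientBot B) (hB.2 ⊥)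
    have hfin := SemilocalNormLib.finite_integralClosure_of_isN2 hN2 L M₂
    obtain ⟨t, ht⟩ := hfin.fg_top
    let pb := AdjoinRoot.powerBasis (f := f) (monic_X_pow_sub_C _ hp.ne_zero).ne_zero
    have hdim : pb.dim = p := by rw [AdjoinRoot.powerBasis_dim, natDegree_X_pow_sub_C]
    let one : Fin pb.dim := ⟨1, hdim ▸ hp.one_lt⟩
    let φ : M₂ →ₗ[M] M := (LinearMap.proj one).comp pb.basis.equivFun.toLinearMap
    -- a common denominator for the coefficients
    have hex' : ∀ y : integralClosure B M₂, ∃ (s : ℕ) (c : C), algebraMap B M (π ^ s) * φ y = algebraMap C M c := by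
      intro y
      obtain ⟨a, d, hd, hm⟩ := IsFractionRing.div_surjective (A := C) (φ y)
      have hπC : algebraMap B C π ≠ 0 := (map_ne_zero_iff _ hinj).2 hπ.ne_zero
      obtain ⟨τ, hτ⟩ := IsDiscreteValuationRing.exists_irreducible C
      obtain ⟨s, v, hv⟩ := IsDiscreteValuationRing.eq_unit_mul_pow_irreducible (nonZeroDivisors.ne_zero hd) hτ
      have hτdvd : τ ∣ algebraMap B C π := by
        rw [← Ideal.mem_span_singleton, ← hτ.maximalIdeal_eq]
        exact fun hu => hπ.not_isUnit (IsUnit.of_map (algebraMap B C) π hu)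
      obtain ⟨q, hq⟩ := pow_dvd_pow_of_dvd hτdvd s
      refine ⟨s, a * (v⁻¹ : Cˣ) * q, ?_⟩
      rw [← hm, IsScalarTower.algebraMap_apply B C M, map_pow (algebraMap B C), hq, hv]
      simp only [map_mul]
      have h0 : algebraMap C M (v : C) ≠ 0 := (map_ne_zero_iff _ (IsFractionRing.injective C M)).2 v.ne_zero
      have h1 : algebraMap C M (τ ^ s) ≠ 0 := (map_ne_zero_iff _ (IsFractionRing.injective C M)).2 (pow_ne_zero _ hτ.ne_zero)
      have h2 : algebraMap C M ((v⁻¹ : Cˣ) : C) = (algebraMap C M (v : C))⁻¹ :=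
        eq_inv_of_mul_eq_one_right (by rw [← map_mul, Units.mul_inv, map_one])
      rw [h2]; field_simp
    choose s cs hs using hex'
    let S := t.sup s
    have hS : ∀ y : integralClosure B M₂, ∃ c : C, algebraMap B M (π ^ S) * φ y = algebraMap C M c := by
      intro y
      have hy : y ∈ Submodule.span B (t : Set (integralClosure B M₂)) := by rw [ht]; exact Submodule.mem_top
      induction hy using Submodule.span_induction with
      | mem z hz =>
        refine ⟨algebraMap B C (π ^ (S - s z)) * cs z, ?_⟩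
        rw [map_mul, ← hs z, ← IsScalarTower.algebraMap_apply, ← mul_assoc, ← map_mul, ← pow_add,
          Nat.sub_add_cancel (Finset.le_sup hz)]
      | zero => exact ⟨0, by simp⟩
      | add a b _ _ ha hb =>
        obtain ⟨c, hc⟩ := ha
        obtain ⟨c', hc'⟩ := hb
        exact ⟨c + c', by rw [Subalgebra.coe_add, map_add, mul_add, hc, hc', map_add]⟩
      | smul b z _ hz =>
        obtain ⟨c, hc⟩ := hz
        refine ⟨algebraMap B C b * c, ?_⟩
        rw [SetLike.val_smul, ← IsScalarTower.algebraMap_smul M b (z : M₂), map_smul, smul_eq_mul, map_mul, ← hc,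
          ← IsScalarTower.algebraMap_apply]
        ring
    obtain ⟨c, u, w, hc, hw⟩ := hall (p * (S + 1)) (Nat.mul_pos hp.pos (Nat.succ_pos S))
    let r : M₂ := AdjoinRoot.root f
    let P := algebraMap B M (π ^ (S + 1))
    have hP0 : P ≠ 0 := by
      show algebraMap B M (π ^ (S + 1)) ≠ 0
      rw [IsScalarTower.algebraMap_apply B L M]
      exact (_root_.map_ne_zero _).2 ((map_ne_zero_iff _ (IsFractionRing.injective B L)).2 (pow_ne_zero _ hπ.ne_zero))
    let z : M₂ := algebraMap M M₂ P⁻¹ * (r - algebraMap M M₂ (algebraMap C M c))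
    have hr : r ^ p = algebraMap M M₂ (algebraMap B M π) := by
      rw [← sub_eq_zero]
      have := AdjoinRoot.eval₂_root f
      simp only [f, eval₂_sub, eval₂_pow, eval₂_X, eval₂_C] at this
      exact this
    have : ExpChar M₂ p := expChar_of_injective_algebraMap (algebraMap M M₂).injective p
    have hzp : z ^ p = algebraMap B M₂ (-w) := by
      simp only [z, mul_pow, sub_pow_expChar, hr, ← map_pow, ← map_sub, ← map_mul, ← map_pow (algebraMap C M), hc,
        ← IsScalarTower.algebraMap_apply B C M]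
      rw [hw, IsScalarTower.algebraMap_apply B M M₂]
      congr 1
      rw [inv_pow, inv_mul_eq_iff_eq_mul₀ (pow_ne_zero _ hP0), sub_add_cancel_left, map_neg, map_neg, map_mul]
      simp only [P, map_pow, ← pow_mul]
      rw [mul_comm (S + 1) p]
      ring
    have hint : IsIntegral B z := IsIntegral.of_pow hp.pos (hzp ▸ isIntegral_algebraMap)
    obtain ⟨c', hc'⟩ := hS ⟨z, hint⟩
    have hφ : φ z = P⁻¹ := by
      have hb1 : pb.basis one = r := by rw [PowerBasis.coe_basis]; simp [one, pb, r]
      let zero : Fin pb.dim := ⟨0, hdim ▸ hp.pos⟩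
      have hb0 : pb.basis zero = 1 := by rw [PowerBasis.coe_basis]; simp [zero]
      have : z = P⁻¹ • pb.basis one - (P⁻¹ * algebraMap C M c) • pb.basis zero := by
        rw [hb1, hb0, Algebra.smul_def, Algebra.smul_def, map_mul, mul_one]; ring
      rw [this, map_sub, map_smul, map_smul]
      simp only [φ, LinearMap.comp_apply, LinearEquiv.coe_coe, LinearMap.proj_apply, Module.Basis.equivFun_self]
      simp [one, zero]
    rw [hφ] at hc'
    simp only [P, map_pow, pow_succ, mul_inv] at hc'
    rw [← mul_assoc, mul_inv_cancel₀, one_mul] at hc'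
    swap
    · intro h0; exact hP0 (by simp [P, pow_succ, h0])
    have h1 : algebraMap B C π * c' = 1 := IsFractionRing.injective C M (by
      rw [map_mul, ← IsScalarTower.algebraMap_apply, ← hc', map_one, mul_inv_cancel₀]
      intro h0; exact hP0 (by simp [P, h0]))
    exact hπ.not_isUnit (IsUnit.of_map (algebraMap B C) π (IsUnit.of_mul_eq_one _ h1))
  obtain ⟨c, u, hc⟩ := hex
  have hQ1 : Q 1 := ⟨c, u, u - 1, hc, by ring⟩
  obtain ⟨n, hn, hQn, hnot⟩ : ∃ n, 1 ≤ n ∧ Q n ∧ ¬ Q (n + 1) := by
    by_contra hno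
    push Not at hno
    obtain ⟨m, hm, hQm⟩ := hbdd
    exact hQm (Nat.le_induction hQ1 (fun k hk ih => hno k hk ih) m hm)
  obtain ⟨c, u, w, hc, hw⟩ := hQn
  have hwu : IsUnit w := by
    by_contra hwu
    have : w ∈ IsLocalRing.maximalIdeal B := hwu
    rw [hπ.maximalIdeal_eq, Ideal.mem_span_singleton] at this
    obtain ⟨w', rfl⟩ := this
    exact hnot ⟨c, u, w', hc, by rw [hw]; ring⟩
  refine ⟨n, c, w, hn, hwu, hw ▸ hc, fun s hs => ?_⟩
  rw [hπ.maximalIdeal_eq, Ideal.mem_span_singleton] at hs
  obtain ⟨a, ha⟩ := hs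
  rcases eq_or_lt_of_le hn with rfl | hn2
  · -- divide by a `p`-th power of a unit
    have hu1 : (u : B) = 1 + w := by
      refine mul_right_cancel₀ hπ.ne_zero ?_
      rw [hw]; ring
    have hsu : IsUnit (1 + s) := by
      rw [← isUnit_pow_iff hp.ne_zero, add_pow_expChar, one_pow]
      by_contra hnu
      have hm : (1 + s ^ p : B) ∈ IsLocalRing.maximalIdeal B := hnu
      have : (u : B) ∈ IsLocalRing.maximalIdeal B := by
        rw [hu1, show 1 + w = (1 + s ^ p) + π * a by linear_combination ha]
        exact Ideal.add_mem _ hm (by rw [hπ.maximalIdeal_eq]; exact Ideal.mul_mem_right _ _ (Ideal.mem_span_singleton_self π))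
      exact this u.isUnit
    obtain ⟨v, hv⟩ := hsu
    refine hnot ⟨c * algebraMap B C (v⁻¹ : Bˣ), u * v⁻¹ ^ p, a * ((v⁻¹ ^ p : Bˣ) : B), ?_, ?_⟩
    · rw [mul_pow, hc]; simp only [map_mul, map_pow, Units.val_mul, Units.val_pow_eq_pow_val]; ring
    · have hvp : (v : B) ^ p = 1 + s ^ p := by rw [hv, add_pow_expChar, one_pow]
      have hinv : ((v⁻¹ : Bˣ) : B) ^ p * (v : B) ^ p = 1 := by rw [← mul_pow, Units.inv_mul, one_pow]
      simp only [Units.val_mul, Units.val_pow_eq_pow_val]
      linear_combination (((v⁻¹ : Bˣ) : B) ^ p * π) * hu1 + (((v⁻¹ : Bˣ) : B) ^ p * π) * ha + π * hinv -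
        (((v⁻¹ : Bˣ) : B) ^ p * π) * hvp
  · -- subtract the `p`-th root of the leading term
    obtain ⟨q, hq⟩ : π ∣ (1 + π ^ (n - 1) * w) ^ n - 1 := by
      have h := sub_dvd_pow_sub_pow (1 + π ^ (n - 1) * w) 1 n
      rw [one_pow, add_sub_cancel_left] at h
      refine dvd_trans ?_ h
      exact Dvd.dvd.mul_right (dvd_pow_self π (by omega)) w
    have hn' : π + π ^ n * w = π * (1 + π ^ (n - 1) * w) := by
      conv_lhs => rw [show n = n - 1 + 1 by omega, pow_succ]
      ring
    have heq : (π + π ^ n * w) - s ^ p * (π + π ^ n * w) ^ n = π + π ^ (n + 1) * (a - s ^ p * q) := by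
      nth_rw 2 [hn']
      rw [mul_pow, show (1 + π ^ (n - 1) * w) ^ n = 1 + π * q by linear_combination hq]
      linear_combination (π ^ n) * ha
    have hunit : IsUnit (1 + π ^ n * (a - s ^ p * q)) := by
      refine IsLocalRing.notMem_maximalIdeal.1 fun h => ?_
      have h1 : π ^ n * (a - s ^ p * q) ∈ IsLocalRing.maximalIdeal B := by
        rw [hπ.maximalIdeal_eq, Ideal.mem_span_singleton]; exact Dvd.dvd.mul_right (dvd_pow_self π (by omega)) _
      exact (IsLocalRing.maximalIdeal.isMaximal B).ne_top ((Ideal.eq_top_iff_one _).2 (by simpa using sub_mem h h1))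
    refine hnot ⟨c - algebraMap B C s * c ^ n, hunit.unit, a - s ^ p * q, ?_, ?_⟩
    · rw [sub_pow_expChar, mul_pow, ← pow_mul, mul_comm n p, pow_mul, hc, hw, ← map_pow, ← map_pow, ← map_mul, ← map_sub]
      congr 1
      rw [heq, IsUnit.unit_spec]; ring
    · rw [IsUnit.unit_spec]; ring

end EtRamStepLib
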