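import Groth.Agent.EtRamStepLib.Ext
import Mathlib.RingTheory.DedekindDomain.IntegralClosure
import Mathlib.RingTheory.DedekindDomain.Dvr
import Mathlib.RingTheory.Nakayama

/-! Totally ramified separable extensions. -/

set_option autoImplicit false
universe u

noncomputable section

namespace EtRamStepLib

/-- A totally ramified separable extension is generated by a uniformiser. -/
theorem exists_uniformizer_basis (A K K₁ : Type u) [CommRing A] [IsDomain A] [IsDiscreteValuationRing A]
    [Field K] [Algebra A K] [IsFractionRing A K] [Field K₁] [Algebra K K₁] [Algebra A K₁] [IsScalarTower A K K₁]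
    [FiniteDimensional K K₁] [Algebra.IsSeparable K K₁]
    (ht : EtRam.IsTotallyRamified A (algebraMap A K₁)) {π : A} (hπ : Irreducible π) :
    ∃ (e : ℕ) (x u : K₁), 0 < e ∧ algebraMap A K₁ π = u * x ^ e ∧
      (∀ V : ValuationSubring K₁, EtRam.Dominates A (algebraMap A K₁) V → V.valuation x < 1 ∧ V.valuation u = 1) ∧
      (∀ z : K₁, z ∈ Submodule.span K (Set.range fun i : Fin e => x ^ (i : ℕ))) ∧
      (∃ b : Fin e → A, x ^ e = algebraMap A K₁ π * ∑ i : Fin e, x ^ (i : ℕ) * algebraMap A K₁ (b i)) := by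
  classical
  let D := integralClosure A K₁
  have : IsIntegralClosure D A K₁ := inferInstance
  have hfin : Module.Finite A D := IsIntegralClosure.finite A K K₁ D
  have : IsDedekindDomain D := IsIntegralClosure.isDedekindDomain A K K₁ D
  have : IsFractionRing D K₁ := integralClosure.isFractionRing_of_finite_extension K K₁
  have hinjD : Function.Injective (algebraMap A D) := fun a b h => by
    have h1 : algebraMap A K₁ a = algebraMap A K₁ b := congrArg Subtype.val h
    rw [IsScalarTower.algebraMap_apply A K K₁, IsScalarTower.algebraMap_apply A K K₁] at h1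
    exact IsFractionRing.injective A K ((algebraMap K K₁).injective h1)
  obtain ⟨V, hV⟩ := ht.1
  have hDV : ∀ d : D, (d : K₁) ∈ V := fun d => by
    have hd : IsIntegral V (d : K₁) := by
      obtain ⟨q, hq, hqd⟩ := d.2
      refine ⟨q.map ((algebraMap A K₁).codRestrict V.toSubring hV.1), hq.map _, ?_⟩
      rw [Polynomial.eval₂_map]; exact hqd
    obtain ⟨w, hw⟩ := IsIntegrallyClosed.isIntegral_iff.1 hd
    exact hw ▸ w.2
  let P : Ideal D := (IsLocalRing.maximalIdeal V).comap ((integralClosure A K₁).val.toRingHom.codRestrict V.toSubring hDV)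
  have hmax : ∀ M : Ideal D, M.IsMaximal → M = P := by
    intro M hM
    let R : Subring K₁ := (integralClosure A K₁).toSubring
    obtain ⟨V', hle, hnu⟩ := Ideal.image_subset_nonunits_valuationSubring (A := R) M hM.ne_top
    have hdom : EtRam.Dominates A (algebraMap A K₁) V' := by
      refine ⟨fun a => hle (algebraMap A D a).2, fun a ha => ?_⟩
      have hm : algebraMap A D a ∈ M := by
        have := Ideal.isMaximal_comap_of_isIntegral_of_isMaximal (R := A) M
        have h := IsLocalRing.eq_maximalIdeal this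
        exact (show a ∈ M.comap (algebraMap A D) from h ▸ ha)
      exact (ValuationSubring.mem_nonunits_iff _).1 (hnu ⟨_, hm, rfl⟩)
    refine hM.eq_of_le (Ideal.comap_ne_top _ (IsLocalRing.maximalIdeal.isMaximal V).ne_top) fun d hd => ?_
    have h1 := (ValuationSubring.mem_nonunits_iff _).1 (hnu ⟨d, hd, rfl⟩)
    rw [ht.2.1 V' V hdom hV] at h1
    exact (V.valuation_lt_one_iff _).2 h1
  have : IsLocalRing D := IsLocalRing.of_unique_max_ideal (by
    obtain ⟨M, hM⟩ := Ideal.exists_maximal D
    exact ⟨M, hM, fun M' hM' => (hmax M' hM').trans (hmax M hM).symm⟩)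
  have hPm : P = IsLocalRing.maximalIdeal D := (hmax _ (IsLocalRing.maximalIdeal.isMaximal D)).symm
  have hnf : ¬ IsField D := fun hF =>
    hπ.not_isUnit ((Algebra.IsIntegral.isField_iff_isField (R := A) (S := D) hinjD).2 hF |>.mul_inv_cancel hπ.ne_zero |>
      fun ⟨b, hb⟩ => IsUnit.of_mul_eq_one b hb)
  have : IsDiscreteValuationRing D := ((IsDiscreteValuationRing.TFAE D hnf).out 0 2 : IsDiscreteValuationRing D ↔ IsDedekindDomain D).2 inferInstance
  obtain ⟨τ, hτ⟩ := IsDiscreteValuationRing.exists_irreducible D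
  obtain ⟨e, u, hu⟩ := IsDiscreteValuationRing.eq_unit_mul_pow_irreducible ((map_ne_zero_iff _ hinjD).2 hπ.ne_zero) hτ
  have hπD : algebraMap A D π ∈ IsLocalRing.maximalIdeal D := by
    rw [← hPm]
    exact (V.valuation_lt_one_iff _).2 (hV.2 π (by rw [hπ.maximalIdeal_eq]; exact Ideal.mem_span_singleton_self π))
  have he : 0 < e := Nat.pos_of_ne_zero fun h0 => by
    rw [hu, h0, pow_zero, mul_one] at hπD
    exact hπD u.isUnit
  -- residues come from below
  have hres : ∀ d : D, ∃ a : A, τ ∣ d - algebraMap A D a := fun d => by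
    obtain ⟨a, ha⟩ := ht.2.2 V hV (IsLocalRing.residue V ⟨d, hDV d⟩)
    refine ⟨a, ?_⟩
    rw [← Ideal.mem_span_singleton, ← hτ.maximalIdeal_eq, ← hPm]
    show (⟨(d : K₁) - algebraMap A K₁ a, _⟩ : V) ∈ IsLocalRing.maximalIdeal V
    rw [← IsLocalRing.residue_eq_zero_iff]
    show IsLocalRing.residue V (⟨(d : K₁), hDV d⟩ - RingHom.codRestrict (algebraMap A K₁) V hV.1 a) = 0
    rw [map_sub, sub_eq_zero]
    exact ha.symm
  let N : Submodule A D := Submodule.span A (Set.range fun i : Fin e => τ ^ (i : ℕ))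
  have hexp : ∀ (k : ℕ), k ≤ e → ∀ d : D, ∃ n ∈ N, τ ^ k ∣ d - n := by
    intro k
    induction k with
    | zero => exact fun _ d => ⟨0, N.zero_mem, by simp⟩
    | succ k ih =>
      intro hk d
      obtain ⟨n, hn, q, hq⟩ := ih (by omega) d
      obtain ⟨a, q', hq'⟩ := hres q
      refine ⟨n + a • τ ^ k, N.add_mem hn (N.smul_mem a (Submodule.subset_span ⟨⟨k, by omega⟩, rfl⟩)), q', ?_⟩
      rw [Algebra.smul_def, pow_succ]
      linear_combination hq + (τ ^ k) * hq'
  have htop : (⊤ : Submodule A D) ≤ N ⊔ Ideal.span {π} • (⊤ : Submodule A D) := fun d _ => by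
    obtain ⟨n, hn, q, hq⟩ := hexp e le_rfl d
    rw [← sub_add_cancel d n, add_comm]
    refine Submodule.add_mem_sup hn ?_
    rw [hq, show τ ^ e * q = π • ((u⁻¹ : Dˣ) * q) by
      rw [Algebra.smul_def, hu]
      calc τ ^ e * q = ((u : D) * (u⁻¹ : Dˣ)) * (τ ^ e * q) := by rw [Units.mul_inv, one_mul]
        _ = _ := by ring]
    exact Submodule.smul_mem_smul (Ideal.mem_span_singleton_self π) Submodule.mem_top
  have hN : ∀ d : D, d ∈ N := fun d => by
    refine Submodule.le_of_le_smul_of_le_jacobson_bot hfin.fg_top ?_ htop Submodule.mem_top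
    rw [IsLocalRing.jacobson_eq_maximalIdeal ⊥ bot_ne_top, hπ.maximalIdeal_eq]
  let x : K₁ := (τ : D)
  have hval : ∀ V' : ValuationSubring K₁, EtRam.Dominates A (algebraMap A K₁) V' → V'.valuation x < 1 ∧ V'.valuation ((u : D) : K₁) = 1 := by
    intro V' hV'
    rw [ht.2.1 V' V hV' hV]
    refine ⟨(V.valuation_lt_one_iff _).1 (show τ ∈ P by rw [hPm, hτ.maximalIdeal_eq]; exact Ideal.mem_span_singleton_self τ), ?_⟩
    refine (V.valuation_eq_one_iff ⟨_, hDV u⟩).1 ?_
    exact u.isUnit.map ((integralClosure A K₁).val.toRingHom.codRestrict V.toSubring hDV)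
  refine ⟨e, x, ((u : D) : K₁), he, congrArg Subtype.val hu, hval, fun z => ?_, ?_⟩
  · obtain ⟨a, s, hs, rfl⟩ := IsFractionRing.div_surjective (A := D) z
    -- the span is a finite domain over the field
    let S := Submodule.span K (Set.range fun i : Fin e => x ^ (i : ℕ))
    have hD : ∀ d : D, (d : K₁) ∈ S := fun d => by
      have := hN d
      induction this using Submodule.span_induction with
      | mem y hy => obtain ⟨i, rfl⟩ := hy; exact Submodule.subset_span ⟨i, rfl⟩
      | zero => exact S.zero_mem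
      | add y w _ _ hy hw => exact S.add_mem hy hw
      | smul c y _ hy =>
        rw [show ((c • y : D) : K₁) = c • (y : K₁) from rfl, ← IsScalarTower.algebraMap_smul K c (y : K₁)]
        exact S.smul_mem _ hy
    have hs0 : s ≠ 0 := nonZeroDivisors.ne_zero hs
    obtain ⟨c, hc0, hc⟩ : ∃ c : A, c ≠ 0 ∧ s ∣ algebraMap A D c := by
      obtain ⟨k, w, hw⟩ := IsDiscreteValuationRing.eq_unit_mul_pow_irreducible hs0 hτ
      refine ⟨π ^ k, pow_ne_zero _ hπ.ne_zero, ?_⟩
      rw [hw, map_pow, hu, Units.mul_left_dvd, mul_pow, ← pow_mul]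
      exact Dvd.dvd.mul_left (pow_dvd_pow τ (Nat.le_mul_of_pos_left k he)) _
    obtain ⟨q, hq⟩ := hc
    have : algebraMap D K₁ a / algebraMap D K₁ s = (algebraMap A K c)⁻¹ • ((a * q : D) : K₁) := by
      have h1 : algebraMap A K₁ c = algebraMap D K₁ s * algebraMap D K₁ q := by
        rw [← map_mul, ← hq, ← IsScalarTower.algebraMap_apply]
      have hc1 : algebraMap A K₁ c ≠ 0 := by
        rw [IsScalarTower.algebraMap_apply A K K₁]
        exact (map_ne_zero _).2 ((map_ne_zero_iff _ (IsFractionRing.injective A K)).2 hc0)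
      rw [Algebra.smul_def, map_inv₀, ← IsScalarTower.algebraMap_apply, h1]
      show _ = _ * algebraMap D K₁ (a * q)
      rw [map_mul]
      have := h1 ▸ hc1
      have hsK : algebraMap D K₁ s ≠ 0 := left_ne_zero_of_mul this
      have hqK : algebraMap D K₁ q ≠ 0 := right_ne_zero_of_mul this
      field_simp
    rw [this]
    exact S.smul_mem _ (hD _)
  · have hmem := hN ((u⁻¹ : Dˣ) : D)
    rw [Submodule.mem_span_range_iff_exists_fun] at hmem
    obtain ⟨b, hb⟩ := hmem
    refine ⟨b, ?_⟩
    have h1 : τ ^ e = algebraMap A D π * ∑ i : Fin e, b i • τ ^ (i : ℕ) := by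
      rw [hb, hu, mul_right_comm, Units.mul_inv, one_mul]
    have h2 := congrArg (fun d : D => (d : K₁)) h1
    simp only [SubmonoidClass.coe_pow, MulMemClass.coe_mul, AddSubmonoidClass.coe_finsetSum, SetLike.val_smul, Algebra.smul_def] at h2
    rw [h2]
    refine congrArg₂ _ rfl (Finset.sum_congr rfl fun i _ => mul_comm _ _)

end EtRamStepLib
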