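import Mathlib.RingTheory.Valuation.ValuationSubring
import Mathlib.RingTheory.DiscreteValuationRing.Basic
import Mathlib.RingTheory.UniqueFactorizationDomain.Multiplicity

/-! Valuations of sums in a totally ramified layer with independent residues. -/

set_option autoImplicit false
universe u v

noncomputable section

namespace EtRamStepLib

variable {B : Type u} [CommRing B] [IsDomain B] [IsDiscreteValuationRing B]
  {Ω : Type v} [Field Ω] (W : ValuationSubring Ω) (g : B →+* Ω) {π : B} (p : ℕ) (x : Ω)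
  {J : Type} [Fintype J] (e : J → Ω)

/-- The hypotheses on a layer. -/
structure Layer (π : B) : Prop where
  irr : Irreducible π
  pos : x ≠ 0
  lt : W.valuation x < 1
  pow : W.valuation (g π) = W.valuation x ^ p
  indep : ∀ b : J → B, (∃ j, IsUnit (b j)) → W.valuation (∑ j, g (b j) * e j) = 1

variable {W g p x e}

theorem Layer.row (h : Layer W g p x e π) (b : J → B) (hb : ∃ j, b j ≠ 0) :
    ∃ k : ℕ, W.valuation (∑ j, g (b j) * e j) = W.valuation x ^ (p * k) ∧ ∀ j, π ^ k ∣ b j := by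
  classical
  obtain ⟨j₀, hj₀⟩ := hb
  have hex : ∃ k, ¬ ∀ j, π ^ k ∣ b j := by
    obtain ⟨n, hn⟩ := (FiniteMultiplicity.of_prime_left (Irreducible.prime h.irr) hj₀)
    exact ⟨n + 1, fun hall => hn (hall j₀)⟩
  obtain ⟨k, hk⟩ : ∃ k, Nat.find hex = k + 1 := Nat.exists_eq_succ_of_ne_zero fun h0 => by
    have := Nat.find_spec hex
    rw [h0] at this
    exact this fun j => by simp
  have hdiv : ∀ j, π ^ k ∣ b j := by
    have := Nat.find_min hex (show k < Nat.find hex by omega)
    rwa [not_not] at this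
  choose c hc using hdiv
  have hu : ∃ j, IsUnit (c j) := by
    by_contra hnu
    push Not at hnu
    refine Nat.find_spec hex fun j => ?_
    rw [hk, pow_succ, hc j]
    refine mul_dvd_mul_left _ (Ideal.mem_span_singleton.1 ?_)
    rw [← h.irr.maximalIdeal_eq]
    exact hnu j
  refine ⟨k, ?_, fun j => ⟨c j, hc j⟩⟩
  have : ∑ j, g (b j) * e j = g π ^ k * ∑ j, g (c j) * e j := by
    rw [Finset.mul_sum]
    exact Finset.sum_congr rfl fun j _ => by rw [hc j, map_mul, map_pow, mul_assoc]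
  rw [this, map_mul, map_pow, h.indep c hu, h.pow, mul_one, pow_mul]

theorem Layer.sum (h : Layer W g p x e π) (hp : 0 < p) (b : Fin p → J → B) (hb : ∃ i j, b i j ≠ 0) :
    ∃ m : ℕ, W.valuation (∑ i : Fin p, x ^ (i : ℕ) * ∑ j, g (b i j) * e j) = W.valuation x ^ m ∧
      ∀ k, p * k ≤ m → ∀ i j, π ^ k ∣ b i j := by
  classical
  have hrow : ∀ i : Fin p, ∃ k : ℕ, ((∃ j, b i j ≠ 0) →
      W.valuation (∑ j, g (b i j) * e j) = W.valuation x ^ (p * k)) ∧ ∀ j, π ^ k ∣ b i j := by
    intro i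
    by_cases hi : ∃ j, b i j ≠ 0
    · obtain ⟨k, h1, h2⟩ := h.row (b i) hi
      exact ⟨k, fun _ => h1, h2⟩
    · exact ⟨0, fun h' => absurd h' hi, fun j => by simp⟩
  choose k hk hkdvd using hrow
  let S : Finset (Fin p) := Finset.univ.filter fun i => ∃ j, b i j ≠ 0
  have hS : S.Nonempty := by
    obtain ⟨i, hi⟩ := hb
    exact ⟨i, Finset.mem_filter.2 ⟨Finset.mem_univ i, hi⟩⟩
  obtain ⟨i₀, hi₀, hmin⟩ := S.exists_min_image (fun i => p * k i + (i : ℕ)) hS
  have hzero : ∀ i, i ∉ S → ∀ j, b i j = 0 := fun i hi j => by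
    by_contra hne
    exact hi (Finset.mem_filter.2 ⟨Finset.mem_univ i, j, hne⟩)
  have hval : ∀ i ∈ S, W.valuation (x ^ (i : ℕ) * ∑ j, g (b i j) * e j) = W.valuation x ^ (p * k i + (i : ℕ)) := by
    intro i hi
    rw [map_mul, map_pow, hk i (Finset.mem_filter.1 hi).2, ← pow_add, add_comm]
  refine ⟨p * k i₀ + (i₀ : ℕ), ?_, fun k' hk' i j => ?_⟩
  · rw [← Finset.sum_subset (Finset.subset_univ S) (fun i _ hi => by simp [hzero i hi]), ← hval i₀ hi₀]
    refine Valuation.map_sum_eq_of_lt _ hi₀ fun i hi => ?_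
    rw [Finset.mem_sdiff, Finset.mem_singleton] at hi
    rw [hval i hi.1, hval i₀ hi₀]
    refine pow_lt_pow_right_of_lt_one₀ (zero_lt_iff.2 ((map_ne_zero _).2 h.pos)) h.lt
      (lt_of_le_of_ne (hmin i hi.1) fun heq => hi.2 (Fin.ext ?_))
    have h1 := congrArg (· % p) heq
    simpa [Nat.mul_add_mod, Nat.mod_eq_of_lt i.2, Nat.mod_eq_of_lt i₀.2] using h1.symm
  · by_cases hi : i ∈ S
    · refine dvd_trans (pow_dvd_pow π ?_) (hkdvd i j)
      have := hmin i hi
      have := i.2
      by_contra hlt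
      push Not at hlt
      have : p * (k i + 1) ≤ p * k' := Nat.mul_le_mul_left p hlt
      rw [Nat.mul_succ] at this
      omega
    · rw [hzero i hi j]; exact dvd_zero _

/-- The valuation is generated by `x` when the layer spans after inverting the uniformiser. -/
theorem Layer.le_of_lt_one (h : Layer W g p x e π) (hp : 0 < p) (z : Ω)
    (hz : ∃ (k : ℕ) (b : Fin p → J → B), g (π ^ k) * z = ∑ i : Fin p, x ^ (i : ℕ) * ∑ j, g (b i j) * e j)
    (hlt : W.valuation z < 1) : W.valuation z ≤ W.valuation x := by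
  obtain ⟨k, b, hb⟩ := hz
  have hv := congrArg W.valuation hb
  rw [map_mul, map_pow, map_pow, h.pow, ← pow_mul] at hv
  have h0 : (0 : W.ValueGroup) < W.valuation x := zero_lt_iff.2 ((map_ne_zero _).2 h.pos)
  by_cases hne : ∃ i j, b i j ≠ 0
  · obtain ⟨m, hm, -⟩ := h.sum hp b hne
    rw [hm] at hv
    have hlt' : W.valuation x ^ m < W.valuation x ^ (p * k) := by
      rw [← hv]; exact mul_lt_of_lt_one_right (pow_pos h0 _) hlt
    have hkm : p * k + 1 ≤ m := (pow_lt_pow_iff_right_of_lt_one₀ h0 h.lt).1 hlt'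
    refine le_of_mul_le_mul_left ?_ (pow_pos h0 (p * k))
    rw [hv, ← pow_succ]
    exact pow_le_pow_of_le_one zero_le h.lt.le hkm
  · push Not at hne
    have : ∑ i : Fin p, x ^ (i : ℕ) * ∑ j, g (b i j) * e j = 0 := by simp [hne]
    rw [this, map_zero, mul_eq_zero] at hv
    rw [hv.resolve_left (pow_ne_zero _ h0.ne')]
    exact h0.le

/-- Integral elements have integral coefficients. -/
theorem Layer.dvd_of_le_one (h : Layer W g p x e π) (hp : 0 < p) (k : ℕ) (z : Ω) (b : Fin p → J → B)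
    (hb : g (π ^ k) * z = ∑ i : Fin p, x ^ (i : ℕ) * ∑ j, g (b i j) * e j) (hle : W.valuation z ≤ 1)
    (i : Fin p) (j : J) : π ^ k ∣ b i j := by
  by_cases hne : ∃ i j, b i j ≠ 0
  · obtain ⟨m, hm, hm'⟩ := h.sum hp b hne
    refine hm' k ?_ i j
    have hv := congrArg W.valuation hb
    rw [map_mul, map_pow, map_pow, h.pow, ← pow_mul, hm] at hv
    have h0 : (0 : W.ValueGroup) < W.valuation x := zero_lt_iff.2 ((map_ne_zero _).2 h.pos)
    refine (pow_le_pow_iff_right_of_lt_one₀ h0 h.lt).1 ?_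
    rw [← hv]
    exact mul_le_of_le_one_right zero_le hle
  · push Not at hne
    rw [hne i j]; exact dvd_zero _

end EtRamStepLib
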